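import Mathlib

/-!
The arithmetic of the moved half of L4 (blueprint/RankTwo_L45.md, D2).

`moved_arith`: the equation of the moved character and the equations of `BrauerOrder.data_qd` force
`B = Q² + Q + 1`.
-/

set_option autoImplicit false
set_option linter.style.haveILetI false

namespace CfsgLib.RankTwoModel.L4.Moved

/-- The divisors of `Q² - 1` congruent to `-1` modulo `Q`. -/
theorem neg_one_divisor {Q j : ℤ} (hQ : 3 ≤ |Q|) (h : j * Q - 1 ∣ Q ^ 2 - 1) :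
    j = 0 ∨ j = Q ∨ j = 1 ∨ j = -1 := by
  have hQ0 : Q ≠ 0 := fun e => by rw [e, abs_zero] at hQ; omega
  obtain ⟨h', hh⟩ := h
  set l := j * h' - Q with hl
  have key : (j * l - 1) * Q = l - j := by
    refine mul_left_cancel₀ hQ0 ?_
    rw [hl]
    linear_combination (-(j * Q)) * hh
  by_cases hj : j = 0
  · exact Or.inl hj
  by_cases hl0 : l = 0
  · rw [hl0] at key
    exact Or.inr (Or.inl (by linarith))
  by_cases h1 : j * l = 1
  · rcases Int.eq_one_or_neg_one_of_mul_eq_one h1 with e | e <;> simp [e]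
  exfalso
  have hj1 : 1 ≤ |j| := Int.one_le_abs hj
  have hl1 : 1 ≤ |l| := Int.one_le_abs hl0
  have e1 : |j * l - 1| * |Q| = |l - j| := by rw [← abs_mul, key]
  have e2 : |l - j| ≤ |l| + |j| := abs_sub l j
  have e3 : |j| * |l| - 1 ≤ |j * l - 1| := by
    have := abs_sub_abs_le_abs_sub (j * l) 1
    rwa [abs_mul, abs_one] at this
  have e4 : 1 ≤ |j * l - 1| := Int.one_le_abs (sub_ne_zero.2 h1)
  have e5 : |j * l - 1| * 3 ≤ |l| + |j| := by
    have := mul_le_mul_of_nonneg_left hQ (abs_nonneg (j * l - 1))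
    linarith
  have bj : |j| ≤ 2 := by nlinarith
  have bl : |l| ≤ 2 := by nlinarith
  obtain ⟨j1, j2⟩ := abs_le.1 bj
  obtain ⟨l1, l2⟩ := abs_le.1 bl
  have e6 : |j * l - 1| * 3 ≤ |l - j| := e1 ▸ mul_le_mul_of_nonneg_left hQ (abs_nonneg _)
  generalize l = m at *
  clear e1 e2 e3 e4 key hh
  interval_cases j <;> interval_cases m
  all_goals first
    | exact hj rfl
    | exact hl0 rfl
    | (norm_num at e6; done)
    | (norm_num at h1)

/-- **The arithmetic of the moved character.** -/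
theorem moved_arith {p k : ℕ} (hp : p.Prime) {Q B C n N m : ℤ} (hQpp : Q.natAbs = p ^ k) (hQ : 3 ≤ |Q|)
    (h4 : 4 ∣ Q + 1) (hB : B ≠ 0) (hB1 : B ≠ 1) (hC : C * (Q ^ 2 - B) = Q ^ 2 * (B - 1))
    (hn : n * Q * (B + Q) ^ 2 = (Q + 1) ^ 4 * (B * (B - 1)))
    (hN : N * (B + Q) ^ 2 = m * Q * (Q + 1) ^ 3 * (B * (B - 1))) (hNo : Odd N) : B = Q ^ 2 + Q + 1 := by
  have hQ0 : Q ≠ 0 := fun e => by rw [e, abs_zero] at hQ; omega
  obtain ⟨a, ha⟩ := h4
  have hQa : Q = 4 * a - 1 := by omega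
  obtain ⟨s, rfl⟩ := hNo
  have hQ1 : IsCoprime Q (Q + 1) := ⟨-1, 1, by ring⟩
  have hQdvd : Q ∣ B * (B - 1) := by
    refine (hQ1.pow_right (n := 4)).dvd_of_dvd_mul_left ?_
    rw [← hn]
    exact Dvd.intro (n * (B + Q) ^ 2) (by ring)
  by_cases hpB : (p : ℤ) ∣ B
  · -- `Q` divides `B`
    have hcop : IsCoprime Q (B - 1) := by
      refine Int.isCoprime_iff_nat_coprime.2 ?_
      rw [hQpp]
      refine Nat.Coprime.pow_left _ ((Nat.Prime.coprime_iff_not_dvd hp).2 fun hd => ?_)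
      have : (p : ℤ) ∣ 1 := by
        have := dvd_sub hpB (Int.natCast_dvd.2 hd)
        rwa [sub_sub_cancel] at this
      exact hp.not_dvd_one (by exact_mod_cast this)
    obtain ⟨t, rfl⟩ := hcop.dvd_of_dvd_mul_right hQdvd
    have ht : Q ^ 2 ∣ t := by
      have h1 : n * Q ^ 2 * (t + 1) ^ 2 = (Q + 1) ^ 4 * (t * (Q * t - 1)) :=
        mul_left_cancel₀ hQ0 (by linear_combination hn)
      have c1 : IsCoprime (Q ^ 2) (Q * t - 1) := (show IsCoprime Q (Q * t - 1) from ⟨t, -1, by ring⟩).pow_left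
      have c2 : IsCoprime (Q ^ 2) ((Q + 1) ^ 4) := hQ1.pow
      refine c1.dvd_of_dvd_mul_right (c2.dvd_of_dvd_mul_left ?_)
      rw [← h1]
      exact Dvd.intro (n * (t + 1) ^ 2) (by ring)
    obtain ⟨j, rfl⟩ := ht
    have h2 : C * (1 - j * Q) = j * Q ^ 3 - 1 :=
      mul_left_cancel₀ (pow_ne_zero 2 hQ0) (by linear_combination hC)
    have hdiv : j * Q - 1 ∣ Q ^ 2 - 1 := ⟨-C - Q ^ 2, by linear_combination -h2⟩
    rcases neg_one_divisor hQ hdiv with hj | hj | hj | hj <;> subst j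
    · simp at hB
    · -- `B = Q⁴`
      exfalso
      have hx : (Q + 1) ^ 2 ≠ 0 := pow_ne_zero 2 (show Q + 1 ≠ 0 from fun e => by
        rw [show Q = -1 by omega] at hQ; norm_num at hQ)
      have h3 : (2 * s + 1) * (Q * (Q ^ 2 - Q + 1)) ^ 2 = m * Q ^ 5 * (Q + 1) * (Q ^ 4 - 1) :=
        mul_left_cancel₀ hx (by linear_combination hN)
      obtain ⟨c, hc⟩ : Odd ((2 * s + 1) * (Q * (Q ^ 2 - Q + 1)) ^ 2) := by
        exact ((odd_two_mul_add_one s).mul ((Int.odd_mul.2 ⟨⟨2 * a - 1, by omega⟩,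
          ⟨8 * a ^ 2 - 6 * a + 1, by rw [hQa]; ring⟩⟩).pow))
      have he : (2 : ℤ) ∣ m * Q ^ 5 * (Q + 1) * (Q ^ 4 - 1) :=
        ((show (2 : ℤ) ∣ Q + 1 from ⟨2 * a, by omega⟩).mul_left _).mul_right _
      rw [← h3, hc] at he
      omega
    · -- `B = Q³`
      exfalso
      obtain ⟨c, hc⟩ : Odd ((2 * s + 1) * (Q * (8 * a ^ 2 - 4 * a + 1)) ^ 2) :=
        (odd_two_mul_add_one s).mul ((Int.odd_mul.2 ⟨⟨2 * a - 1, by omega⟩, ⟨4 * a ^ 2 - 2 * a, by ring⟩⟩).pow)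
      have he : 4 * ((2 * s + 1) * (Q * (8 * a ^ 2 - 4 * a + 1)) ^ 2) =
          8 * (8 * a ^ 3 * (m * Q ^ 4 * (Q ^ 3 - 1))) := by
        simp only [hQa] at hN ⊢; linear_combination hN
      rw [hc] at he
      omega
    · -- `B = -Q³`
      exfalso
      have hx : (Q + 1) ^ 2 ≠ 0 := pow_ne_zero 2 (show Q + 1 ≠ 0 from fun e => by
        rw [show Q = -1 by omega] at hQ; norm_num at hQ)
      have h3 : (2 * s + 1) * (Q * (Q - 1)) ^ 2 = m * Q ^ 4 * (Q + 1) * (Q ^ 3 + 1) :=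
        mul_left_cancel₀ hx (by linear_combination hN)
      obtain ⟨c, hc⟩ : Odd ((2 * s + 1) * (Q * (2 * a - 1)) ^ 2) :=
        (odd_two_mul_add_one s).mul ((Int.odd_mul.2 ⟨⟨2 * a - 1, by omega⟩, ⟨a - 1, by ring⟩⟩).pow)
      have he : 4 * ((2 * s + 1) * (Q * (2 * a - 1)) ^ 2) =
          16 * (a ^ 2 * (m * Q ^ 4 * (16 * a ^ 2 - 12 * a + 3))) := by
        simp only [hQa] at h3 ⊢; linear_combination h3
      rw [hc] at he
      omega
  · -- `Q` divides `B - 1`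
    have hcop : IsCoprime Q B := by
      refine Int.isCoprime_iff_nat_coprime.2 ?_
      rw [hQpp]
      exact Nat.Coprime.pow_left _ ((Nat.Prime.coprime_iff_not_dvd hp).2 fun hd => hpB (Int.natCast_dvd.2 hd))
    obtain ⟨t, ht⟩ := hcop.dvd_of_dvd_mul_left hQdvd
    obtain rfl : B = Q * t + 1 := by omega
    have hf : (Q - t) * Q - 1 ∣ Q ^ 2 - 1 := by
      have c1 : IsCoprime ((Q - t) * Q - 1) (Q ^ 2) :=
        (show IsCoprime ((Q - t) * Q - 1) Q from ⟨-1, Q - t, by ring⟩).pow_right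
      refine c1.dvd_of_dvd_mul_left ⟨C + Q ^ 2, ?_⟩
      linear_combination -hC
    rcases neg_one_divisor hQ hf with hj | hj | hj | hj
    · -- `B = Q² + 1`
      exfalso
      obtain rfl : Q = t := by linarith
      obtain ⟨c, hc⟩ : Odd ((2 * s + 1) * (Q * Q + 1 + Q) ^ 2) :=
        (odd_two_mul_add_one s).mul (Odd.pow ⟨8 * a ^ 2 - 2 * a, by rw [hQa]; ring⟩)
      have he : (2 : ℤ) ∣ m * Q * (Q + 1) ^ 3 * ((Q * Q + 1) * (Q * Q + 1 - 1)) :=
        ((dvd_pow (show (2 : ℤ) ∣ Q + 1 from ⟨2 * a, by omega⟩) three_ne_zero).mul_left _).mul_right _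
      rw [← hN, hc] at he
      omega
    · exact absurd (by rw [show t = 0 by linarith]; ring) hB1
    · -- `B = Q² - Q + 1`
      exfalso
      obtain rfl : t = Q - 1 := by linarith
      obtain ⟨c, hc⟩ : Odd ((2 * s + 1) * (8 * a ^ 2 - 4 * a + 1) ^ 2) :=
        (odd_two_mul_add_one s).mul (Odd.pow ⟨4 * a ^ 2 - 2 * a, by ring⟩)
      have he : 4 * ((2 * s + 1) * (8 * a ^ 2 - 4 * a + 1) ^ 2) =
          8 * (8 * a ^ 3 * (m * Q * ((Q * (Q - 1) + 1) * (Q * (Q - 1))))) := by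
        simp only [hQa] at hN ⊢; linear_combination hN
      rw [hc] at he
      omega
    · rw [show t = Q + 1 by linarith]; ring

end CfsgLib.RankTwoModel.L4.Moved
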