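import Cfsg.Agent.Lib.RankTwoModel.L4.Moved.Blocks

/-!
The block of a regular character of the centraliser of a four group (blueprint/RankTwo_L45.md, D2).

* `exists_four_block`: it induces a block with four irreducible characters.
-/

set_option autoImplicit false
set_option linter.unusedSectionVars false
set_option linter.style.haveILetI false

namespace CfsgLib.RankTwoModel.L4.Moved

open Cfsg CfsgLib.CharTheory CfsgLib.Blocks

universe u

/-- **A regular character of the centraliser of a four group gives a block of four characters.** -/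
theorem exists_four_block {G : Type u} [Group G] [Fintype G] {M : Ideal AlgInt} (hM : IsPModular 2 M)
    {V : Subgroup G} (hV : IsKleinFour V)
    (h2 : (Nat.card (Subgroup.centralizer (V : Set G))).factorization 2 = 2)
    (ψ : ↥(Subgroup.centralizer (V : Set G)) →* ℂˣ)
    (hψV : ∀ x : ↥(Subgroup.centralizer (V : Set G)), (x : G) ∈ V → ψ x = 1)
    (hreg : ∀ g ∈ Subgroup.normalizer (V : Set G), g ∉ Subgroup.centralizer (V : Set G) →
      ∃ x x' : ↥(Subgroup.centralizer (V : Set G)), (x' : G) = g * x * g⁻¹ ∧ ψ x' ≠ ψ x) :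
    ∃ B : Set (IrrCharacter G), IsPBlock M B ∧ Nat.card B = 4 ∧ ∀ χ : IrrCharacter G,
      (∀ g, MemLocalIdeal M (inducedCentralChar (Subgroup.centralizer (V : Set G)) (fun x => (ψ x : ℂ)) g -
        centralChar (χ : G → ℂ) g)) → χ ∈ B := by
  classical
  haveI : Fact (Nat.Prime 2) := ⟨Nat.prime_two⟩
  haveI := hV
  haveI : Fintype ↥(Subgroup.centralizer (V : Set G)) := Fintype.ofFinite _
  have hVp : IsPGroup 2 V := IsPGroup.of_card (n := 2) (hV.card_four.trans (by norm_num))
  haveI : IsMulCommutative V := IsPGroup.isMulCommutative_of_card_eq_prime_sq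
    (hV.card_four.trans (by norm_num) : Nat.card V = 2 ^ 2)
  have hVK : V ≤ (Subgroup.centralizer (V : Set G)) := fun x hx y hy =>
    congrArg Subtype.val ((IsMulCommutative.is_comm (M := V)).comm ⟨y, hy⟩ ⟨x, hx⟩)
  let θ : IrrCharacter ↥(Subgroup.centralizer (V : Set G)) := ⟨fun x => (ψ x : ℂ), isIrrCharacter_linear ψ⟩
  set e := blockOf M (θ : ↥(Subgroup.centralizer (V : Set G)) → ℂ) with he
  have heb : IsPBlock M e := blockOf_isPBlock θ
  have hθe : θ ∈ e := mem_blockOf_self hM θ
  -- two-elements of `(Subgroup.centralizer (V : Set G))` lie in `V`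
  let V' : Subgroup ↥(Subgroup.centralizer (V : Set G)) := V.subgroupOf (Subgroup.centralizer (V : Set G))
  have hV'c : Nat.card V' = 4 :=
    (Nat.card_congr (Subgroup.subgroupOfEquivOfLe hVK).toEquiv).trans hV.card_four
  have hcen : ∀ a ∈ V', ∀ b : ↥(Subgroup.centralizer (V : Set G)), b * a = a * b := fun a ha b => Subtype.ext (b.2 (a : G) ha).symm
  have h2V : ∀ t : ↥(Subgroup.centralizer (V : Set G)), (∃ j : ℕ, t ^ 2 ^ j = 1) → (t : G) ∈ V := by
    intro t ⟨j, hj⟩
    have hsup : IsPGroup 2 ↥(V' ⊔ Subgroup.zpowers t) := by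
      haveI : V'.Normal := ⟨fun a ha b => by rw [hcen a ha b, mul_inv_cancel_right]; exact ha⟩
      exact (IsPGroup.of_card (n := 2) (hV'c.trans (by norm_num)) : IsPGroup 2 V').to_sup_of_normal_left
        (IsPGroup.of_card_dvd_pow (n := j) (by
          rw [Nat.card_zpowers]; exact orderOf_dvd_of_pow_eq_one hj))
    obtain ⟨k, hk⟩ := IsPGroup.iff_card.1 hsup
    have hk2 : k ≤ 2 := h2 ▸ (Nat.prime_two.pow_dvd_iff_le_factorization Nat.card_pos.ne').1
      (hk ▸ Subgroup.card_subgroup_dvd_card _)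
    have heq : V' = V' ⊔ Subgroup.zpowers t := Subgroup.eq_of_le_of_card_ge le_sup_left (by
      rw [hk, hV'c, show 4 = 2 ^ 2 from rfl]
      exact Nat.pow_le_pow_right two_pos hk2)
    exact Subgroup.mem_subgroupOf.1 (show t ∈ V' from heq.ge (Subgroup.mem_sup_right (Subgroup.mem_zpowers t)))
  -- the maximal pair
  obtain ⟨B, hB⟩ := (maximal_pair_criterion hM (Q := V) (e := e) ⟨hVp, heb⟩).2 ⟨θ, hθe, fun z hz => by
    show (ψ z : ℂ) = (ψ 1 : ℂ)
    rw [hψV z hz, map_one], by
    rw [show dv 2 (θ : ↥(Subgroup.centralizer (V : Set G)) → ℂ) = 0 from by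
      rw [dv, show charDegree (θ : ↥(Subgroup.centralizer (V : Set G)) → ℂ) = 1 from by
        simp [charDegree, θ], Nat.factorization_one, Finsupp.coe_zero, Pi.zero_apply],
      inf_of_le_left hVK, hV.card_four, h2, zero_add, show (4 : ℕ) = 2 ^ 2 from rfl,
      Nat.factorization_pow_self Nat.prime_two], fun g hg hst _ => by
    refine Subgroup.mem_sup_right ?_
    by_contra hgK
    obtain ⟨x, x', exx, hne⟩ := hreg g hg hgK
    obtain ⟨χ', hχ', hconj⟩ := hst.2 θ hθe
    let φ : ↥(Subgroup.centralizer (V : Set G)) →* ℂˣ := ψ.comp (MonoidHom.mk' (fun k => (⟨g⁻¹ * k * g, by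
        have := (Subgroup.mem_normalizer_iff.1 (inv_mem hst.1) (k : G)).1 k.2
        rwa [inv_inv] at this⟩ : ↥(Subgroup.centralizer (V : Set G))))
      fun a b => Subtype.ext (by show g⁻¹ * ((a : G) * b) * g = g⁻¹ * a * g * (g⁻¹ * b * g); group))
    have hφ : (χ' : ↥(Subgroup.centralizer (V : Set G)) → ℂ) = fun k => (φ k : ℂ) := funext fun k =>
      hconj _ k (show (k : G) = g * (g⁻¹ * k * g) * g⁻¹ by group)
    have hcong : ∀ a, MemLocalIdeal M (centralChar (fun k => (ψ k : ℂ)) a - centralChar (fun k => (φ k : ℂ)) a) :=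
      hφ ▸ hχ'
    have hagree : ∀ y : ↥(Subgroup.centralizer (V : Set G)), ψ y = φ y := by
      intro y
      obtain ⟨a, m, hm, hn⟩ := Nat.exists_eq_two_pow_mul_odd (orderOf_pos y).ne'
      have h1 : ψ y ^ m = φ y ^ m := by
        rw [← map_pow, ← map_pow]
        have hmV := h2V (y ^ m) ⟨a, by rw [← pow_mul, mul_comm, ← hn, pow_orderOf_eq_one]⟩
        rw [hψV _ hmV]
        refine (hψV _ ?_).symm
        show g⁻¹ * ((y ^ m : ↥(Subgroup.centralizer (V : Set G))) : G) * g ∈ V
        have := (Subgroup.mem_normalizer_iff.1 (inv_mem hg) ((y ^ m : ↥(Subgroup.centralizer (V : Set G))) : G)).1 hmV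
        rwa [inv_inv] at this
      have h3 : ψ y ^ 2 ^ a = φ y ^ 2 ^ a := by
        rw [← map_pow, ← map_pow]
        refine hom_eq_of_congr hM hcong ?_ ?_
        · rw [orderOf_pow_of_dvd (pow_ne_zero a two_ne_zero) (hn ▸ dvd_mul_right _ _), hn,
            Nat.mul_div_cancel_left _ (pow_pos two_pos a)]
          exact hm.not_two_dvd_nat
        · intro hd
          have hle : V' ≤ Subgroup.centralizer ({y ^ 2 ^ a} : Set ↥(Subgroup.centralizer (V : Set G))) := fun v hv =>
            Subgroup.mem_centralizer_singleton_iff.2 (hcen v hv _).symm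
          have h4 : 4 * 2 ∣ Nat.card ↥(Subgroup.centralizer (V : Set G)) := by
            rw [← (Subgroup.centralizer ({y ^ 2 ^ a} : Set ↥(Subgroup.centralizer (V : Set G)))).card_mul_index]
            exact mul_dvd_mul (hV'c ▸ Subgroup.card_dvd_of_le hle) hd
          have := (Nat.prime_two.pow_dvd_iff_le_factorization (k := 3) Nat.card_pos.ne').1 (show 2 ^ 3 ∣ Nat.card ↥(Subgroup.centralizer (V : Set G)) from h4)
          omega
      have h5 : ψ y * (φ y)⁻¹ = 1 := by
        rw [← pow_one (ψ y * (φ y)⁻¹), ← (hm.coprime_two_right.pow_right a).gcd_eq_one]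
        exact pow_gcd_eq_one.mpr ⟨by rw [mul_pow, inv_pow, h1, mul_inv_cancel],
          by rw [mul_pow, inv_pow, h3, mul_inv_cancel]⟩
      exact mul_inv_eq_one.1 h5
    refine hne ((hagree x').trans (congrArg ψ (Subtype.ext ?_)))
    show g⁻¹ * (x' : G) * g = x
    rw [exx]
    group⟩
  have hind := (induced_centralizer_iff hM hVp).2 hB.1
  refine ⟨B, hB.1.2.1, (klein_blocks hM hB hV).2.1, fun χ hχ => ?_⟩
  obtain ⟨χ₁, hχ₁⟩ := hB.1.2.1
  rw [hχ₁]
  intro g
  have h1 := hind.2.2 θ hθe χ₁ (hχ₁ ▸ mem_blockOf_self hM χ₁) g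
  have h3 := hχ g
  rw [memIdeal_sub_iff hM (memRing_inducedCentralChar _ hM θ g)
    (show MemLocalRing M (centralChar (χ₁ : G → ℂ) g) from memRing_clv hM g χ₁)] at h1
  rw [memIdeal_sub_iff hM (memRing_inducedCentralChar _ hM θ g)
    (show MemLocalRing M (centralChar (χ : G → ℂ) g) from memRing_clv hM g χ)] at h3
  exact (memIdeal_sub_iff hM (memRing_clv hM g χ₁) (memRing_clv hM g χ)).2 (h1.symm.trans h3)

end CfsgLib.RankTwoModel.L4.Moved
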