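import Cfsg.Agent.Lib.Blocks.KleinBlocks
import Cfsg.Agent.Lib.Blocks.FongLocal
import Cfsg.Agent.Lib.Blocks.MaximalCriterion

/-!
Block lemmas for the moved half of L4 (blueprint/RankTwo_L45.md, D2).

* `sec_pairing_zero`: a character outside the induced block is orthogonal to the block on a section;
* `hom_eq_of_congr`: linear characters congruent on the central characters agree on regular elements;
* `induced_trans`: transitivity of block induction through a centraliser.
-/

set_option autoImplicit false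
set_option linter.unusedSectionVars false
set_option linter.style.haveILetI false

namespace CfsgLib.RankTwoModel.L4.Moved

open Cfsg CfsgLib.CharTheory CfsgLib.Blocks
open scoped ComplexConjugate

universe u

variable {p : ℕ} {M : Ideal AlgInt} {G : Type u} [Group G] [Fintype G]

/-- **A character outside the induced block is orthogonal to the block on the regular elements of the section.** -/
theorem sec_pairing_zero (hM : IsPModular p M) {x : G} {H : Subgroup G} [Fintype H] (hH : IsCentr x H)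
    (hx : ∃ k : ℕ, orderOf x = p ^ k) (ξ : IrrCharacter H) (χ : IrrCharacter G)
    (hnot : ¬ IsInducedBlock M H (blockOf M (ξ : H → ℂ)) (blockOf M (χ : G → ℂ))) :
    ∑ y ∈ Finset.univ.filter (fun y : H => ¬ p ∣ orderOf y),
      (χ : G → ℂ) (x * (y : G)) * conj ((ξ : H → ℂ) y) = 0 := by
  classical
  set b := blockOf M (ξ : H → ℂ) with hbdef
  set θ := sec x H (χ : G → ℂ) with hθdef
  have hθ : IsClassFunction H θ := sec_isClassFunction hH χ
  set R := Finset.univ.filter (fun y : H => ¬ p ∣ orderOf y) with hR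
  have hreg : ∀ ψ : IrrCharacter H, ψ ∉ b →
      ∑ y ∈ R, (ψ : H → ℂ) y * conj ((ξ : H → ℂ) y) = 0 := by
    intro ψ hψ
    have h := regS_eq_zero (p := p) hM (χ := ξ) (ψ := ψ) (fun hs => hψ hs)
    rw [regS_comm] at h
    refine Eq.trans ?_ h
    rw [hR, Finset.sum_filter, regS]
    refine Finset.sum_congr rfl fun y _ => ?_
    rw [regFn]
    by_cases hy : p ∣ orderOf y
    · simp [hy]
    · simp only [hy, if_false, not_false_eq_true, if_true]
      rw [irr_inv, irr_conjInv]
      ring
  have key : ∀ y ∈ R, ∑ ψ ∈ bset b, classInner θ (ψ : H → ℂ) * (ψ : H → ℂ) y = 0 := fun y hy => by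
    rw [← blockPart_apply]
    exact blockPart_sec_eq_zero hM hH hx (blockOf_isPBlock ξ) (blockOf_isPBlock χ) (mem_blockOf_self hM χ) hnot
      (Finset.mem_filter.1 hy).2
  have hexp : ∀ y, θ y = ∑ ψ : IrrCharacter H, classInner θ (ψ : H → ℂ) * (ψ : H → ℂ) y := fun y => by
    have h := congrFun (eq_sum_irr hθ) y
    simpa [Finset.sum_apply] using h
  have hout : ∀ y ∈ R, θ y =
      ∑ ψ ∈ Finset.univ.filter (fun ψ : IrrCharacter H => ψ ∉ b), classInner θ (ψ : H → ℂ) * (ψ : H → ℂ) y := by
    intro y hy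
    rw [hexp y, ← Finset.sum_filter_add_sum_filter_not Finset.univ (fun ψ : IrrCharacter H => ψ ∈ b)]
    rw [show Finset.univ.filter (fun ψ : IrrCharacter H => ψ ∈ b) = bset b from Finset.ext fun ψ => by simp [mem_bset],
      key y hy, zero_add]
  calc ∑ y ∈ R, (χ : G → ℂ) (x * (y : G)) * conj ((ξ : H → ℂ) y)
      = ∑ y ∈ R, θ y * conj ((ξ : H → ℂ) y) := rfl
    _ = ∑ ψ ∈ Finset.univ.filter (fun ψ : IrrCharacter H => ψ ∉ b),
          classInner θ (ψ : H → ℂ) * ∑ y ∈ R, (ψ : H → ℂ) y * conj ((ξ : H → ℂ) y) := by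
        rw [Finset.sum_congr rfl fun y hy => by rw [hout y hy, Finset.sum_mul], Finset.sum_comm]
        refine Finset.sum_congr rfl fun ψ _ => ?_
        rw [Finset.mul_sum]
        exact Finset.sum_congr rfl fun y _ => by ring
    _ = 0 := Finset.sum_eq_zero fun ψ hψ => by rw [hreg ψ (Finset.mem_filter.1 hψ).2, mul_zero]

/-- A root of unity of order prime to `p` congruent to one is one. -/
theorem root_eq_one (hM : IsPModular p M) {ω : ℂ} {m : ℕ} (hm : ω ^ m = 1) (hpm : ¬ p ∣ m)
    (h : res hM ω = 1) : ω = 1 := by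
  by_contra hne
  have hm0 : m ≠ 0 := fun e => hpm (e ▸ dvd_zero p)
  have hω : MemLocalRing M ω := memRing_of_isIntegral hM (IsIntegral.of_pow (Nat.pos_of_ne_zero hm0) (hm ▸ isIntegral_one))
  have hs : ∑ j ∈ Finset.range m, ω ^ j = 0 := by
    rw [geom_sum_eq hne, hm, sub_self, zero_div]
  have hr := congrArg (res hM) hs
  rw [res_sum hM (fun j _ => (loc hM).pow_mem hω j), res_zero] at hr
  rw [Finset.sum_congr rfl fun j _ => by rw [res_pow hM hω, h, one_pow], Finset.sum_const, Finset.card_range,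
    nsmul_eq_mul, mul_one] at hr
  haveI := res_charP hM
  exact hpm ((CharP.cast_eq_zero_iff (AlgInt ⧸ M) p m).1 hr)

/-- **Congruent linear characters** agree on the regular elements of classes of size prime to `p`. -/
theorem hom_eq_of_congr (hM : IsPModular p M) {φ ψ : G →* ℂˣ}
    (h : ∀ g, MemLocalIdeal M (centralChar (fun g => (φ g : ℂ)) g - centralChar (fun g => (ψ g : ℂ)) g))
    {y : G} (hy : ¬ p ∣ orderOf y) (hcl : ¬ p ∣ (Subgroup.centralizer ({y} : Set G)).index) : φ y = ψ y := by
  set k := (Subgroup.centralizer ({y} : Set G)).index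
  have hmem : ∀ η : G →* ℂˣ, MemLocalRing M (η y : ℂ) := fun η => memRing_of_isIntegral hM
    (IsIntegral.of_pow (orderOf_pos y) (by
      rw [← Units.val_pow_eq_pow_val, ← map_pow, pow_orderOf_eq_one, map_one, Units.val_one]; exact isIntegral_one))
  have hk : ∀ η : G →* ℂˣ, MemLocalRing M ((k : ℂ) * (η y : ℂ)) := fun η =>
    (loc hM).mul_mem (memRing_natCast hM k) (hmem η)
  have h' := h y
  simp only [centralChar, map_one, Units.val_one, div_one] at h'
  rw [memIdeal_sub_iff hM (hk φ) (hk ψ), res_mul hM (memRing_natCast hM k) (hmem φ),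
    res_mul hM (memRing_natCast hM k) (hmem ψ), res_natCast] at h'
  haveI := res_isDomain hM
  haveI := res_charP hM
  have heq : res hM (φ y : ℂ) = res hM (ψ y : ℂ) :=
    mul_left_cancel₀ (fun e => hcl ((CharP.cast_eq_zero_iff (AlgInt ⧸ M) p k).1 e)) h'
  have h1 : ((φ * ψ⁻¹) y : ℂˣ) = 1 := by
    refine Units.ext (root_eq_one hM (m := orderOf y) ?_ hy ?_)
    · rw [← Units.val_pow_eq_pow_val, ← map_pow, pow_orderOf_eq_one, map_one, Units.val_one]
    · have e : ((ψ y : ℂˣ) : ℂ) * ((ψ⁻¹ y : ℂˣ) : ℂ) = 1 := by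
        rw [MonoidHom.inv_apply, ← Units.val_mul, mul_inv_cancel, Units.val_one]
      rw [MonoidHom.mul_apply, Units.val_mul, res_mul hM (hmem φ) (hmem ψ⁻¹), heq,
        ← res_mul hM (hmem ψ) (hmem ψ⁻¹), e, res_one]
  rwa [MonoidHom.mul_apply, MonoidHom.inv_apply, mul_inv_eq_one] at h1

/-- **Transitivity**: a block induced through `C` into the blocks of its induced block. -/
theorem induced_trans (hM : IsPModular p M) {C : Subgroup G} [Fintype C] {K : Subgroup C} [Fintype K]
    {c : Set (IrrCharacter K)} {f : Set (IrrCharacter C)} (hcf : IsInducedBlock M K c f)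
    {B : Set (IrrCharacter G)} (hfB : IsInducedBlock M C f B)
    {K' : Subgroup G} [Fintype K'] (e : K ≃* K') (he : ∀ k : K, ((e k : K') : G) = ((k : C) : G))
    {ξ : IrrCharacter K} (hξ : ξ ∈ c) {ξ' : IrrCharacter K'}
    (hξ' : ∀ k : K, (ξ' : K' → ℂ) (e k) = (ξ : K → ℂ) k) {χ : IrrCharacter G} (hχ : χ ∈ B) (g : G) :
    MemLocalIdeal M (inducedCentralChar K' (ξ' : K' → ℂ) g - centralChar (χ : G → ℂ) g) := by
  classical
  obtain ⟨η, hη⟩ := block_nonempty hM hcf.2.1
  have h1 := hfB.2.2 η hη χ hχ g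
  rw [memIdeal_sub_iff hM (memRing_inducedCentralChar _ hM η g)
    (show MemLocalRing M (centralChar (χ : G → ℂ) g) from memRing_clv hM g χ)] at h1
  rw [memIdeal_sub_iff hM (memRing_inducedCentralChar _ hM ξ' g)
    (show MemLocalRing M (centralChar (χ : G → ℂ) g) from memRing_clv hM g χ)]
  refine Eq.trans ?_ h1
  rw [← omega_restrict_classInd C g, ← res_omega_of_induced K hM ξ η (hcf.2.2 ξ hξ η hη)
    (fun a b => isClassFunction_classInd g (a : G) (b : G)) (fun k => memRing_classInd hM g k)]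
  congr 1
  rw [← omega_restrict_classInd K' g, omega, omega, show (ξ' : K' → ℂ) 1 = (ξ : K → ℂ) 1 by rw [← hξ' 1, map_one]]
  congr 1
  refine (Fintype.sum_equiv e.toEquiv _ _ fun k => ?_).symm
  simp only [MulEquiv.toEquiv_eq_coe, EquivLike.coe_coe, hξ', he]

end CfsgLib.RankTwoModel.L4.Moved
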