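import Mathlib

/-!
Three orthogonal sign vectors against the degrees and values of four characters (blueprint/RankTwo_L45.md, D2).

* `signs_of_norm_four`: a vector of norm four orthogonal to the degrees consists of signs;
* `hadamard`: the weighted squares of a value vector with three equal coordinates.
-/

set_option autoImplicit false
set_option linter.style.haveILetI false

namespace CfsgLib.RankTwoModel.L4.Moved

/-- A sign. -/
def sgnB (b : Bool) : ℤ := if b then 1 else -1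

theorem hadamard_aux : ∀ a b : Fin 4 → Bool, (∑ k, sgnB (a k)) = 0 → (∑ k, sgnB (b k)) = 0 →
    (∑ k, sgnB (a k) * sgnB (b k)) = 0 → ∀ k l : Fin 4,
      1 + sgnB (a k) * sgnB (a l) + sgnB (b k) * sgnB (b l) + sgnB (a k) * sgnB (b k) * (sgnB (a l) * sgnB (b l)) =
        if k = l then 4 else 0 := by
  decide +kernel

theorem exists_sgnB {a : Fin 4 → ℤ} (ha : ∀ k, a k = 1 ∨ a k = -1) : ∃ b : Fin 4 → Bool, ∀ k, a k = sgnB (b k) :=
  ⟨fun k => decide (a k = 1), fun k => by rcases ha k with e | e <;> simp [sgnB, e]⟩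

/-- A vector of norm four orthogonal to the degrees consists of signs. -/
theorem signs_of_norm_four {c d : Fin 4 → ℤ} (hd : ∀ k, d k ≠ 0) (hn : ∑ k, c k ^ 2 = 4)
    (h : ∑ k, c k * d k = 0) : ∀ k, c k = 1 ∨ c k = -1 := by
  have hle : ∀ k, c k ^ 2 ≤ 1 := by
    intro k
    by_contra hk
    have h4 : 4 ≤ c k ^ 2 := by
      have h2 : 2 ≤ |c k| := by
        rcases abs_cases (c k) with ⟨e, -⟩ | ⟨e, -⟩ <;> nlinarith [abs_nonneg (c k)]
      nlinarith [sq_abs (c k)]
    have h0 : ∀ l, l ≠ k → c l = 0 := fun l hl => by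
      have := Finset.sum_le_sum_of_subset_of_nonneg (f := fun m => c m ^ 2) (Finset.subset_univ {k, l})
        (fun m _ _ => sq_nonneg (c m))
      rw [Finset.sum_pair (Ne.symm hl), hn] at this
      exact pow_eq_zero_iff (n := 2) (by norm_num) |>.1 (le_antisymm (by linarith) (sq_nonneg _))
    rw [Finset.sum_eq_single k (fun l _ hl => by rw [h0 l hl, zero_mul]) (by simp)] at h
    rcases mul_eq_zero.1 h with e | e
    · rw [e] at h4; norm_num at h4
    · exact hd k e
  have hall : ∀ k, c k ^ 2 = 1 := by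
    intro k
    by_contra hk
    have : ∑ m, c m ^ 2 < ∑ _m : Fin 4, (1 : ℤ) :=
      Finset.sum_lt_sum (fun m _ => hle m) ⟨k, Finset.mem_univ k, lt_of_le_of_ne (hle k) hk⟩
    simp [hn] at this
  exact fun k => sq_eq_one_iff.1 (hall k)

/-- **The weighted squares.** -/
theorem hadamard {c : Fin 3 → Fin 4 → ℤ} (hc : ∀ j k, c j k = 1 ∨ c j k = -1)
    (horth : ∀ a b, a ≠ b → ∑ k, c a k * c b k = 0) {d : Fin 4 → ℤ} (hd : ∀ k, d k ≠ 0)
    (hdc : ∀ j, ∑ k, c j k * d k = 0) {v : Fin 4 → ℂ} {x : ℂ} (hv : ∀ j, ∑ k, (c j k : ℂ) * v k = x)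
    (hdv : ∑ k, (d k : ℂ) * v k = 0) :
    ∃ n : ℤ, n ≠ 0 ∧ ∑ k, (c 0 k : ℂ) * v k ^ 2 / (d k : ℂ) = x ^ 2 / (2 * (n : ℂ)) := by
  have hsq : ∀ k, c 0 k * c 0 k = 1 := fun k => by rcases hc 0 k with e | e <;> rw [e] <;> norm_num
  have hmul : ∀ j k, c 0 k * c j k = 1 ∨ c 0 k * c j k = -1 := fun j k => by
    rcases hc 0 k with e | e <;> rcases hc j k with e' | e' <;> rw [e, e'] <;> norm_num
  obtain ⟨a, ha⟩ := exists_sgnB (hmul 1)
  obtain ⟨b, hb⟩ := exists_sgnB (hmul 2)
  set A : Fin 4 → ℤ := fun k => c 0 k * c 1 k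
  set B : Fin 4 → ℤ := fun k => c 0 k * c 2 k
  set e : Fin 4 → ℤ := fun k => c 0 k * d k
  set w : Fin 4 → ℂ := fun k => (c 0 k : ℂ) * v k
  have sA : ∑ k, A k = 0 := horth 0 1 (by decide)
  have sB : ∑ k, B k = 0 := horth 0 2 (by decide)
  have sAB : ∑ k, A k * B k = 0 := by
    rw [← horth 1 2 (by decide)]
    exact Finset.sum_congr rfl fun k _ => by linear_combination (c 1 k * c 2 k) * hsq k
  have key : ∀ k l, 1 + A k * A l + B k * B l + A k * B k * (A l * B l) = if k = l then 4 else 0 := fun k l => by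
    simp only [A, B, ha, hb]
    simp only [A, B, ha, hb] at sA sB sAB
    exact hadamard_aux a b sA sB sAB k l
  have exp : ∀ {y : Fin 4 → ℂ} (k : Fin 4), 4 * y k =
      ∑ l, y l + (A k : ℂ) * ∑ l, (A l : ℂ) * y l + (B k : ℂ) * ∑ l, (B l : ℂ) * y l +
        (A k : ℂ) * (B k : ℂ) * ∑ l, (A l : ℂ) * (B l : ℂ) * y l := by
    intro y k
    calc 4 * y k = ∑ l, ((if k = l then 4 else 0 : ℤ) : ℂ) * y l := by simp
      _ = ∑ l, (1 + (A k : ℂ) * A l + (B k : ℂ) * B l + (A k : ℂ) * B k * ((A l : ℂ) * B l)) * y l :=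
        Finset.sum_congr rfl fun l _ => by rw [← key k l]; push_cast; rfl
      _ = _ := by
        simp only [Finset.mul_sum, ← Finset.sum_add_distrib]
        exact Finset.sum_congr rfl fun l _ => by ring
  have hsqC : ∀ k, (c 0 k : ℂ) * c 0 k = 1 := fun k => by exact_mod_cast hsq k
  have hAsq : ∀ k, (A k : ℂ) * A k = 1 := fun k => by
    rcases hmul 1 k with h | h <;> simp only [A, h] <;> norm_num
  have hBsq : ∀ k, (B k : ℂ) * B k = 1 := fun k => by
    rcases hmul 2 k with h | h <;> simp only [B, h] <;> norm_num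
  -- the degrees
  have e0 : ∑ l, (e l : ℂ) = 0 := by exact_mod_cast hdc 0
  have eA : ∑ l, (A l : ℂ) * (e l : ℂ) = 0 := by
    have h : ∑ l, (c 1 l : ℂ) * (d l : ℂ) = 0 := by exact_mod_cast hdc 1
    rw [← h]
    refine Finset.sum_congr rfl fun l _ => ?_
    simp only [A, e]; push_cast
    linear_combination ((c 1 l : ℂ) * d l) * hsqC l
  have eB : ∑ l, (B l : ℂ) * (e l : ℂ) = 0 := by
    have h : ∑ l, (c 2 l : ℂ) * (d l : ℂ) = 0 := by exact_mod_cast hdc 2
    rw [← h]
    refine Finset.sum_congr rfl fun l _ => ?_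
    simp only [B, e]; push_cast
    linear_combination ((c 2 l : ℂ) * d l) * hsqC l
  set n : ℤ := A 0 * B 0 * e 0 with hn
  set E : ℂ := ∑ l, (A l : ℂ) * (B l : ℂ) * (e l : ℂ)
  have he4 : ∀ k, 4 * (e k : ℂ) = (A k : ℂ) * B k * E := fun k => by
    have := exp (y := fun l => (e l : ℂ)) k
    rwa [e0, eA, eB, mul_zero, mul_zero, zero_add, zero_add, zero_add] at this
  have he : ∀ k, (e k : ℂ) = (A k : ℂ) * B k * n := fun k => by
    rw [hn]; push_cast
    linear_combination he4 k / 4 - (A k : ℂ) * B k * (A 0 : ℂ) * B 0 * he4 0 / 4 -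
      (A k : ℂ) * B k * E * (B 0 : ℂ) * B 0 / 4 * hAsq 0 - (A k : ℂ) * B k * E / 4 * hBsq 0
  have hn0 : n ≠ 0 := fun h => by
    have h0 := he 0
    rw [h, Int.cast_zero, mul_zero, Int.cast_eq_zero] at h0
    rcases mul_eq_zero.1 h0 with h' | h'
    · rcases hc 0 0 with e1 | e1 <;> omega
    · exact hd 0 h'
  -- the values
  have w0 : ∑ l, w l = x := hv 0
  have wA : ∑ l, (A l : ℂ) * w l = x := by
    rw [← hv 1]
    refine Finset.sum_congr rfl fun l _ => ?_
    simp only [A, w]; push_cast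
    linear_combination ((c 1 l : ℂ) * v l) * hsqC l
  have wB : ∑ l, (B l : ℂ) * w l = x := by
    rw [← hv 2]
    refine Finset.sum_congr rfl fun l _ => ?_
    simp only [B, w]; push_cast
    linear_combination ((c 2 l : ℂ) * v l) * hsqC l
  have wE : ∑ l, (A l : ℂ) * B l * w l = 0 := by
    have h : (n : ℂ) * ∑ l, (A l : ℂ) * B l * w l = 0 := by
      rw [Finset.mul_sum, ← hdv]
      refine Finset.sum_congr rfl fun l _ => ?_
      calc (n : ℂ) * ((A l : ℂ) * B l * w l) = (e l : ℂ) * w l := by rw [he l]; ring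
        _ = (d l : ℂ) * v l := by simp only [e, w]; push_cast; linear_combination ((d l : ℂ) * v l) * hsqC l
    exact (mul_eq_zero.1 h).resolve_left (Int.cast_ne_zero.2 hn0)
  have hw : ∀ k, w k = x / 4 * (1 + (A k : ℂ) + (B k : ℂ)) := fun k => by
    have := exp (y := w) k
    rw [w0, wA, wB, wE] at this
    linear_combination this / 4
  refine ⟨n, hn0, ?_⟩
  have hterm : ∀ k, (c 0 k : ℂ) * v k ^ 2 / (d k : ℂ) =
      x ^ 2 / (16 * (n : ℂ)) * (2 + 3 * ((A k : ℂ) * B k) + 2 * (B k : ℂ) + 2 * (A k : ℂ)) := fun k => by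
    have hdk : (d k : ℂ) ≠ 0 := Int.cast_ne_zero.2 (hd k)
    have hnC : (n : ℂ) ≠ 0 := Int.cast_ne_zero.2 hn0
    have hk : (c 0 k : ℂ) * d k = (A k : ℂ) * B k * n := by
      have := he k
      simp only [e] at this; push_cast at this
      exact this
    have hwk : (c 0 k : ℂ) * v k = x / 4 * (1 + (A k : ℂ) + (B k : ℂ)) := hw k
    have hvk : v k = (c 0 k : ℂ) * (x / 4 * (1 + (A k : ℂ) + (B k : ℂ))) := by
      linear_combination (c 0 k : ℂ) * hwk - v k * hsqC k
    have hdk' : (d k : ℂ) = (c 0 k : ℂ) * ((A k : ℂ) * B k * n) := by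
      linear_combination (c 0 k : ℂ) * hk - (d k : ℂ) * hsqC k
    rcases hc 0 k with h0 | h0 <;> rcases hmul 1 k with hA | hA <;> rcases hmul 2 k with hB | hB <;>
      (rw [hvk, hdk']; simp only [A, B, h0, hA, hB]; push_cast; field_simp; ring)
  rw [Finset.sum_congr rfl fun k _ => hterm k, ← Finset.mul_sum]
  simp only [Finset.sum_add_distrib, ← Finset.mul_sum]
  rw [Finset.sum_const, Finset.card_univ, Fintype.card_fin]
  have s1 : ∑ k, (A k : ℂ) = 0 := by exact_mod_cast sA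
  have s2 : ∑ k, (B k : ℂ) = 0 := by exact_mod_cast sB
  have s3 : ∑ k, (A k : ℂ) * (B k : ℂ) = 0 := by exact_mod_cast sAB
  rw [s1, s2, s3]
  have hnC : (n : ℂ) ≠ 0 := Int.cast_ne_zero.2 hn0
  simp only [nsmul_eq_mul]
  push_cast
  field_simp
  ring

end CfsgLib.RankTwoModel.L4.Moved
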