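import Cfsg.Agent.Lib.RankTwoModel.L4.Moved.Frames
import Cfsg.Agent.Lib.RankTwoModel.L4.Moved.Hadamard

/-!
The blocks and the counting of the moved character (blueprint/RankTwo_L45.md, D2).

* `inducedCentralChar_conj`: induced central characters of conjugate linear characters;
* `twist_chi`: the untwisted characters of the three frames;
* `block_mem`: the constituents of the three induced sums lie in one block;
* `counting`: three orthogonal sums of norm four in a block of four characters.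
-/

set_option autoImplicit false
set_option linter.unusedSectionVars false
set_option linter.style.haveILetI false

namespace CfsgLib.RankTwoModel.L4.Moved

open Cfsg CfsgLib.BrauerOrder CfsgLib.CharTheory CfsgLib.Blocks
open scoped ComplexConjugate

universe u v

section Conj

variable {G : Type u} [Group G]

theorem inducedCentralChar_conj {K : Subgroup G} {a : G} (ha : ∀ k : G, k ∈ K ↔ a * k * a⁻¹ ∈ K)
    (ψ φ : ↥K →* ℂˣ) (h : ∀ k : ↥K, φ k = ψ ⟨a * k * a⁻¹, (ha k).1 k.2⟩) (g : G) :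
    inducedCentralChar K (fun k => (φ k : ℂ)) g = inducedCentralChar K (fun k => (ψ k : ℂ)) g := by
  let σ : ↥K ≃ ↥K :=
    { toFun := fun k => ⟨a * k * a⁻¹, (ha k).1 k.2⟩
      invFun := fun k => ⟨a⁻¹ * k * a, (ha _).2 (by
        rw [show a * (a⁻¹ * (k : G) * a) * a⁻¹ = k by group]; exact k.2)⟩
      left_inv := fun k => Subtype.ext (by simp [mul_assoc])
      right_inv := fun k => Subtype.ext (by simp [mul_assoc]) }
  rw [inducedCentralChar, inducedCentralChar]
  refine finsum_mem_eq_of_bijOn σ (σ.bijOn fun k => ?_) fun k _ => ?_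
  · show IsConj g ((σ k : ↥K) : G) ↔ IsConj g (k : G)
    have hc : IsConj (k : G) ((σ k : ↥K) : G) := isConj_iff.2 ⟨a, rfl⟩
    exact ⟨fun e => e.trans hc.symm, fun e => e.trans hc⟩
  · rw [h k, map_one, map_one]
    rfl

end Conj

variable {G : Type u} [Group G] [Fintype G] {z : G} [Fintype (Cz z)] {Ω : Type v} [MulAction (Cz z) Ω]
  [Finite Ω] {D : Sys G z} {i : ℕ} (hT : Tor D Ω i)
  {ψ : ↥(Subgroup.centralizer ({(D.w : G), z} : Set G)) →* ℂˣ}
  (hψU : ∀ x : ↥(Subgroup.centralizer ({(D.w : G), z} : Set G)), ((x : G) = (D.w : G) ∨ (x : G) = z) → ψ x = 1)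
  (hreg : ∀ g ∈ Subgroup.normalizer (D.UG : Set G), g ∉ Subgroup.centralizer ({(D.w : G), z} : Set G) →
    ∃ x x' : ↥(Subgroup.centralizer ({(D.w : G), z} : Set G)), (x' : G) = g * x * g⁻¹ ∧ ψ x' ≠ ψ x)
  (hθ : ∀ g ∈ Subgroup.normalizer (D.UG : Set G), ∃ θ : Cz z →* ℂˣ,
    ∀ (c : Cz z) (x' : ↥(Subgroup.centralizer ({(D.w : G), z} : Set G))), c ∈ D.core.O → c * D.w = D.w * c →
      (x' : G) = g * c * g⁻¹ → θ c = ψ x')
include hT

theorem n_mem_normalizer : ((D.core.n true : Cz z) : G) ∈ Subgroup.normalizer (D.UG : Set G) := by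
  set n := D.core.n true
  refine Subgroup.mem_normalizer_iff.2 fun u => ⟨?_, ?_⟩
  · rintro ⟨t, ht, rfl⟩
    exact ⟨n * t * n⁻¹, hT.spec.core.nnorm true t ht, rfl⟩
  · rintro ⟨t, ht, e⟩
    refine ⟨n⁻¹ * t * n, by rw [n_inv_conj hT ht]; exact hT.spec.core.nnorm true t ht, ?_⟩
    show (n : G)⁻¹ * (t : G) * n = u
    rw [show (t : G) = (n : G) * u * (n : G)⁻¹ from e]
    group

include hψU hreg hθ in
/-- The untwisted character of a frame. -/
theorem twist_chi {a : G} (ha : a ∈ Subgroup.normalizer (D.UG : Set G)) :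
    ∃ (θ : Cz z →* ℂˣ) (φ : ↥(CW D) →* ℂˣ), Chi D Ω i φ ∧ θ D.zc = 1 ∧ θ D.w = 1 ∧
      ∀ c : ↥(CW D), tw hT ψ ha c = θ (c : Cz z) * φ c := by
  obtain ⟨θ₀, hθ₀⟩ := hθ a ha
  obtain ⟨m, hm⟩ := hT.spec.core.oodd
  set θ : Cz z →* ℂˣ := θ₀ ^ (2 * m + 2)
  have hinv : ∀ t : Cz z, t * t = 1 → θ t = 1 := fun t ht => by
    show θ₀ t ^ (2 * m + 2) = 1
    rw [← map_pow, show 2 * m + 2 = 2 * (m + 1) by ring, pow_mul, sq, ht, one_pow, map_one]
  have hO : ∀ c : Cz z, c ∈ D.core.O → θ c = θ₀ c := fun c hc => by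
    show θ₀ c ^ (2 * m + 2) = θ₀ c
    have h1 : c ^ Nat.card D.core.O = 1 := by
      have := congrArg Subtype.val (pow_card_eq_one' (x := (⟨c, hc⟩ : D.core.O)))
      rwa [Subgroup.coe_pow, Subgroup.coe_one] at this
    rw [← map_pow, show 2 * m + 2 = Nat.card D.core.O + 1 by omega, pow_succ, h1, one_mul]
  set φ : ↥(CW D) →* ℂˣ := tw hT ψ ha * (θ.comp (CW D).subtype)⁻¹
  refine ⟨θ, φ, ?_, hinv _ (zc_ne hT.spec).2, hinv _ hT.spec.wsq, fun c => ?_⟩
  · refine ⟨hT, fun c hc => ?_, fun t => ?_, fun e => ?_⟩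
    · show tw hT ψ ha c * (θ (c : Cz z))⁻¹ = 1
      rw [mul_inv_eq_one, hO _ hc]
      exact (hθ₀ (c : Cz z) _ hc ((mem_CW hT).1 c.2) rfl).symm
    · show tw hT ψ ha (uCW hT t) * (θ (t : Cz z))⁻¹ = 1
      rw [tw_u hT hψU, hinv _ (U_sq hT t.2), inv_one, mul_one]
    · have hn := n_mem_normalizer hT
      have hw : (D.w : G) ∈ D.UG := ⟨D.w, hT.spec.wT, rfl⟩
      obtain ⟨k, -, hne⟩ := tw_ne_tw hT hψU hreg (a := a * ((D.core.n true : Cz z) : G)⁻¹) (b := a)
        (mul_mem ha (inv_mem hn)) ha hw (by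
          intro h
          have h' : ((D.core.n true : Cz z) : G)⁻¹ * (D.w : G) * ((D.core.n true : Cz z) : G) = (D.w : G) := by
            calc ((D.core.n true : Cz z) : G)⁻¹ * (D.w : G) * ((D.core.n true : Cz z) : G)
                = a⁻¹ * (a * ((D.core.n true : Cz z) : G)⁻¹ * (D.w : G) * (a * ((D.core.n true : Cz z) : G)⁻¹)⁻¹) * a := by
                  group
              _ = a⁻¹ * (a * (D.w : G) * a⁻¹) * a := by rw [h]
              _ = _ := by group
          have h2 : (D.core.n true)⁻¹ * D.w * D.core.n true = D.w := Subtype.ext h'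
          rw [n_inv_w hT] at h2
          exact (zc_ne hT.spec).1 (mul_eq_right.1 h2))
      refine hne ?_
      have e1 : tw hT ψ (mul_mem ha (inv_mem hn)) k = tw hT ψ ha (nCW hT k) := by
        refine congrArg ψ (Subtype.ext ?_)
        show a * ((D.core.n true : Cz z) : G)⁻¹ * ((k : Cz z) : G) * (a * ((D.core.n true : Cz z) : G)⁻¹)⁻¹ =
          a * (((D.core.n true : Cz z) : G)⁻¹ * ((k : Cz z) : G) * ((D.core.n true : Cz z) : G)) * a⁻¹
        group
      rw [e1]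
      have h := DFunLike.congr_fun e k
      simp only [φ, MonoidHom.comp_apply, MonoidHom.mul_apply, MonoidHom.inv_apply, Subgroup.coe_subtype] at h
      rw [nCW_coe, map_mul θ, map_mul θ, map_inv θ, mul_comm (θ (D.core.n true))⁻¹, inv_mul_cancel_right] at h
      exact mul_right_cancel h
  · show _ = θ (c : Cz z) * (tw hT ψ ha c * (θ (c : Cz z))⁻¹)
    rw [mul_comm (θ (c : Cz z)), inv_mul_cancel_right]

/-- The constituents lie in the block determined by the character of `C(U)`. -/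
theorem block_mem {M : Ideal AlgInt} (hM : IsPModular 2 M) {a : G} (ha : a ∈ Subgroup.normalizer (D.UG : Set G))
    {θ : Cz z →* ℂˣ} {φ : ↥(CW D) →* ℂˣ} (H : Chi D Ω i φ) (hθw : θ D.w = 1)
    (hφ : ∀ c : ↥(CW D), tw hT ψ ha c = θ (c : Cz z) * φ c)
    (ψU : ↥(Subgroup.centralizer (D.UG : Set G)) →* ℂˣ)
    (hψ : ∀ (x : ↥(Subgroup.centralizer (D.UG : Set G))) (x' : ↥(Subgroup.centralizer ({(D.w : G), z} : Set G))),
      (x : G) = x' → ψU x = ψ x')
    {χ : IrrCharacter G} (hne : classInner (D.up (H.phi θ)) (χ : G → ℂ) ≠ 0) (g : G) :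
    MemLocalIdeal M (inducedCentralChar (Subgroup.centralizer (D.UG : Set G)) (fun x => (ψU x : ℂ)) g -
      centralChar (χ : G → ℂ) g) := by
  classical
  letI := Fintype.ofFinite ↥(CW D)
  letI := Fintype.ofFinite ↥(Subgroup.centralizer (D.UG : Set G))
  obtain ⟨f, B, hcf, hfB, hB⟩ := phi_block H θ hθw hM hφ
  have hmemK : ∀ k : ↥(CW D), ((k : Cz z) : G) ∈ Subgroup.centralizer (D.UG : Set G) := fun k => by
    rw [cent_UG hT, Subgroup.mem_centralizer_iff]
    rintro y (e | e) <;> rw [e]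
    · exact (congrArg Subtype.val ((mem_CW hT).1 k.2)).symm
    · exact (Subgroup.mem_centralizer_singleton_iff.1 (k : Cz z).2).symm
  have hback : ∀ x : ↥(Subgroup.centralizer (D.UG : Set G)), ∃ k : ↥(CW D), ((k : Cz z) : G) = x := fun x => by
    have hx : (x : G) ∈ Subgroup.centralizer ({(D.w : G), z} : Set G) := by rw [← cent_UG hT]; exact x.2
    rw [Subgroup.mem_centralizer_iff] at hx
    exact ⟨⟨⟨x, Subgroup.mem_centralizer_singleton_iff.2 (hx z (Or.inr rfl)).symm⟩,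
      (mem_CW hT).2 (Subtype.ext (hx _ (Or.inl rfl)).symm)⟩, rfl⟩
  obtain ⟨e, he⟩ : ∃ e : ↥(CW D) ≃* ↥(Subgroup.centralizer (D.UG : Set G)),
      ∀ k, ((e k : ↥(Subgroup.centralizer (D.UG : Set G))) : G) = ((k : Cz z) : G) := by
    let f : ↥(CW D) →* ↥(Subgroup.centralizer (D.UG : Set G)) :=
      MonoidHom.mk' (fun k => ⟨((k : Cz z) : G), hmemK k⟩) fun k k' => Subtype.ext rfl
    have hf : ∀ k, ((f k : ↥(Subgroup.centralizer (D.UG : Set G))) : G) = ((k : Cz z) : G) := fun k => rfl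
    have hbij : Function.Bijective f := ⟨fun k k' h => Subtype.ext (Subtype.ext (by rw [← hf k, h, hf k'])),
      fun x => (hback x).imp fun k hk => Subtype.ext ((hf k).trans hk)⟩
    exact ⟨MulEquiv.ofBijective f hbij, fun k => by rw [MulEquiv.ofBijective_apply, hf]⟩
  have hconj : ∀ k : G, k ∈ Subgroup.centralizer (D.UG : Set G) ↔ a * k * a⁻¹ ∈ Subgroup.centralizer (D.UG : Set G) :=
    fun k => by
    constructor
    · intro hk y hy
      have h := hk _ ((Subgroup.mem_normalizer_iff''.1 ha y).1 hy)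
      calc y * (a * k * a⁻¹) = a * (a⁻¹ * y * a * k) * a⁻¹ := by group
        _ = a * (k * (a⁻¹ * y * a)) * a⁻¹ := by rw [h]
        _ = _ := by group
    · intro hk y hy
      have h := hk _ ((Subgroup.mem_normalizer_iff.1 ha y).1 hy)
      calc y * k = a⁻¹ * (a * y * a⁻¹ * (a * k * a⁻¹)) * a := by group
        _ = a⁻¹ * (a * k * a⁻¹ * (a * y * a⁻¹)) * a := by rw [h]
        _ = _ := by group
  set φU : ↥(Subgroup.centralizer (D.UG : Set G)) →* ℂˣ := (tw hT ψ ha).comp e.symm.toMonoidHom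
  have hrel : ∀ x, φU x = ψU ⟨a * x * a⁻¹, (hconj x).1 x.2⟩ := fun x => by
    obtain ⟨k, rfl⟩ := e.surjective x
    have e1 : φU (e k) = tw hT ψ ha k := congrArg (tw hT ψ ha) (e.symm_apply_apply k)
    have e2 := hψ ⟨a * ((e k : ↥(Subgroup.centralizer (D.UG : Set G))) : G) * a⁻¹, (hconj _).1 (e k).2⟩
      ⟨a * ((k : Cz z) : G) * a⁻¹, conj_CW hT ha k⟩ (show a * ((e k : ↥(Subgroup.centralizer (D.UG : Set G))) : G) * a⁻¹ = a * ((k : Cz z) : G) * a⁻¹ from congrArg (fun y => a * y * a⁻¹) (he k))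
    rw [e1, e2]
    exact MonoidHom.comp_apply ψ _ k
  set Ξ : IrrCharacter ↥(CW D) := ⟨fun k => (tw hT ψ ha k : ℂ), isIrrCharacter_linear _⟩ with hΞ
  have hval : (fun k : ↥(CW D) => (tw hT ψ ha k : ℂ)) = (Ξ : ↥(CW D) → ℂ) := by rw [hΞ]
  rw [hval] at hcf
  have hmem : Ξ ∈ blockOf M (Ξ : ↥(CW D) → ℂ) := mem_blockOf_self (G := ↥(CW D)) hM Ξ
  have h := induced_trans hM hcf hfB e he (ξ := Ξ) hmem
    (ξ' := ⟨fun x => (φU x : ℂ), isIrrCharacter_linear φU⟩) (fun k => by
      exact congrArg (fun y => ((tw hT ψ ha y : ℂˣ) : ℂ)) (e.symm_apply_apply k)) (hB χ hne) g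
  rw [← inducedCentralChar_conj hconj ψU φU hrel g]
  exact h

end CfsgLib.RankTwoModel.L4.Moved
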