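import Cfsg.Agent.Lib.RankTwoModel.L4.Moved.Phi

/-!
The conjugates of the moved character and the orthogonality of their sums (blueprint/RankTwo_L45.md, D2).

* `tw`: the character composed with conjugation by an element normalising the four group;
* `tw_ne`: two conjugations differing on the four group give characters differing on an element of odd order;
* `phi_orth`: the sums of two different characters are orthogonal; `up_phi_z`: the induced value at `z`.
-/

set_option autoImplicit false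
set_option linter.unusedSectionVars false
set_option linter.style.haveILetI false

namespace CfsgLib.RankTwoModel.L4.Moved

open Cfsg CfsgLib.BrauerOrder CfsgLib.CharTheory
open scoped ComplexConjugate

universe u v

variable {G : Type u} [Group G] [Fintype G] {z : G} [Fintype (Cz z)] {Ω : Type v} [MulAction (Cz z) Ω]
  {D : Sys G z} {i : ℕ}

section Tw

variable (hT : Tor D Ω i)
include hT

theorem mem_UG {x : G} : x ∈ D.UG ↔ x = 1 ∨ x = z ∨ x = (D.w : G) ∨ x = z * (D.w : G) := by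
  constructor
  · rintro ⟨t, ht, rfl⟩
    rcases U_cases hT ht with e | e | e | e <;> rw [e]
    · exact Or.inl rfl
    · exact Or.inr (Or.inl hT.spec.zcv)
    · exact Or.inr (Or.inr (Or.inl rfl))
    · exact Or.inr (Or.inr (Or.inr (by
        show ((D.zc : Cz z) : G) * (D.w : G) = z * D.w
        rw [hT.spec.zcv])))
  · have hz : z ∈ D.UG := ⟨D.zc, hT.spec.core.zle true hT.spec.zcZ, hT.spec.zcv⟩
    have hw : (D.w : G) ∈ D.UG := ⟨D.w, hT.spec.wT, rfl⟩
    rintro (e | e | e | e) <;> rw [e]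
    exacts [one_mem _, hz, hw, mul_mem hz hw]

theorem cent_UG : Subgroup.centralizer (D.UG : Set G) = Subgroup.centralizer ({(D.w : G), z} : Set G) := by
  refine le_antisymm (Subgroup.centralizer_le ?_) fun x hx => ?_
  · rintro y (rfl | rfl)
    · exact (mem_UG hT).2 (Or.inr (Or.inr (Or.inl rfl)))
    · exact (mem_UG hT).2 (Or.inr (Or.inl rfl))
  · intro y hy
    have hw := Subgroup.mem_centralizer_iff.1 hx (D.w : G) (Or.inl rfl)
    have hz := Subgroup.mem_centralizer_iff.1 hx z (Or.inr rfl)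
    rcases (mem_UG hT).1 hy with e | e | e | e <;> rw [e]
    · rw [one_mul, mul_one]
    · exact hz
    · exact hw
    · exact (((show Commute z x from hz).mul_left (show Commute (D.w : G) x from hw))).eq

theorem klein_UG : IsKleinFour ↥D.UG := by
  have e := ((D.core.T true).equivMapOfInjective (Subgroup.subtype _) Subtype.val_injective)
  have h4 : Nat.card ↥(D.core.T true) = 4 := by rw [hT.spec.cardU, hT.h2]; norm_num
  haveI : IsKleinFour ↥(D.core.T true) := by
    refine ⟨h4, ?_⟩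
    have hdvd : Monoid.exponent ↥(D.core.T true) ∣ 2 := Monoid.exponent_dvd_of_forall_pow_eq_one fun t =>
      Subtype.ext (by rw [Subgroup.coe_pow, sq, Subgroup.coe_one]; exact U_sq hT t.2)
    rcases (Nat.dvd_prime Nat.prime_two).1 hdvd with h | h
    · exfalso
      have : Subsingleton ↥(D.core.T true) := Monoid.exp_eq_one_iff.1 h
      have := Finite.card_le_one_iff_subsingleton.2 this
      omega
    · exact h
  exact CfsgLib.DihedralFusion.isKleinFour_of_equiv e

theorem conj_CW {a : G} (ha : a ∈ Subgroup.normalizer (D.UG : Set G)) (c : ↥(CW D)) :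
    a * ((c : Cz z) : G) * a⁻¹ ∈ Subgroup.centralizer ({(D.w : G), z} : Set G) := by
  rw [← cent_UG hT]
  have hc : ((c : Cz z) : G) ∈ Subgroup.centralizer (D.UG : Set G) := by
    rw [cent_UG hT, Subgroup.mem_centralizer_iff]
    rintro y (e | e) <;> rw [e]
    · exact (congrArg Subtype.val ((mem_CW hT).1 c.2)).symm
    · exact (Subgroup.mem_centralizer_singleton_iff.1 (c : Cz z).2).symm
  intro y hy
  have h := hc _ ((Subgroup.mem_normalizer_iff''.1 ha y).1 hy)
  calc y * (a * ((c : Cz z) : G) * a⁻¹) = a * (a⁻¹ * y * a * ((c : Cz z) : G)) * a⁻¹ := by group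
    _ = a * (((c : Cz z) : G) * (a⁻¹ * y * a)) * a⁻¹ := by rw [h]
    _ = _ := by group

/-- The character composed with conjugation. -/
noncomputable def tw (ψ : ↥(Subgroup.centralizer ({(D.w : G), z} : Set G)) →* ℂˣ) {a : G}
    (ha : a ∈ Subgroup.normalizer (D.UG : Set G)) : ↥(CW D) →* ℂˣ :=
  ψ.comp (MonoidHom.mk' (fun c => ⟨a * ((c : Cz z) : G) * a⁻¹, conj_CW hT ha c⟩)
    fun c c' => Subtype.ext (by simp [mul_assoc]))

variable {ψ : ↥(Subgroup.centralizer ({(D.w : G), z} : Set G)) →* ℂˣ}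
  (hψU : ∀ x : ↥(Subgroup.centralizer ({(D.w : G), z} : Set G)), ((x : G) = (D.w : G) ∨ (x : G) = z) → ψ x = 1)
  (hreg : ∀ g ∈ Subgroup.normalizer (D.UG : Set G), g ∉ Subgroup.centralizer ({(D.w : G), z} : Set G) →
    ∃ x x' : ↥(Subgroup.centralizer ({(D.w : G), z} : Set G)), (x' : G) = g * x * g⁻¹ ∧ ψ x' ≠ ψ x)
include hψU

theorem psi_UG {x : ↥(Subgroup.centralizer ({(D.w : G), z} : Set G))} (hx : (x : G) ∈ D.UG) : ψ x = 1 := by
  rcases (mem_UG hT).1 hx with e | e | e | e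
  · rw [show x = 1 from Subtype.ext e, map_one]
  · exact hψU x (Or.inr e)
  · exact hψU x (Or.inl e)
  · have hz : z ∈ Subgroup.centralizer ({(D.w : G), z} : Set G) := by
      rw [← cent_UG hT]
      intro y hy
      rcases (mem_UG hT).1 hy with e' | e' | e' | e' <;> rw [e']
      · rw [one_mul, mul_one]
      · exact Subgroup.mem_centralizer_singleton_iff.1 D.w.2
      · rw [mul_assoc, Subgroup.mem_centralizer_singleton_iff.1 D.w.2]
    have hw : (D.w : G) ∈ Subgroup.centralizer ({(D.w : G), z} : Set G) := by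
      rw [Subgroup.mem_centralizer_iff]
      rintro y (e' | e') <;> rw [e']
      exact (Subgroup.mem_centralizer_singleton_iff.1 D.w.2).symm
    rw [show x = ⟨z, hz⟩ * ⟨(D.w : G), hw⟩ from Subtype.ext e, map_mul, hψU ⟨z, hz⟩ (Or.inr rfl),
      hψU ⟨_, hw⟩ (Or.inl rfl), one_mul]

theorem tw_u {a : G} (ha : a ∈ Subgroup.normalizer (D.UG : Set G)) (t : ↥(D.core.T true)) :
    tw hT ψ ha (uCW hT t) = 1 :=
  psi_UG hT hψU ((Subgroup.mem_normalizer_iff.1 ha _).1 ⟨(t : Cz z), t.2, rfl⟩)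

include hreg in
theorem tw_ne_tw {a b : G} (ha : a ∈ Subgroup.normalizer (D.UG : Set G)) (hb : b ∈ Subgroup.normalizer (D.UG : Set G))
    {u : G} (hu : u ∈ D.UG) (hab : a * u * a⁻¹ ≠ b * u * b⁻¹) :
    ∃ k : ↥(CW D), Odd (orderOf k) ∧ tw hT ψ ha k ≠ tw hT ψ hb k := by
  have hnot : b * a⁻¹ ∉ Subgroup.centralizer ({(D.w : G), z} : Set G) := fun h => by
    rw [← cent_UG hT] at h
    refine hab ?_
    have e := h (a * u * a⁻¹) ((Subgroup.mem_normalizer_iff.1 ha u).1 hu)
    calc a * u * a⁻¹ = (a * u * a⁻¹) * (b * a⁻¹) * (b * a⁻¹)⁻¹ := by group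
      _ = b * a⁻¹ * (a * u * a⁻¹) * (b * a⁻¹)⁻¹ := by rw [e]
      _ = _ := by group
  obtain ⟨x, x', hx', hne⟩ := hreg _ (mul_mem hb (inv_mem ha)) hnot
  -- the preimage of the witness
  have hmem : a⁻¹ * (x : G) * a ∈ Subgroup.centralizer (D.UG : Set G) := by
    have hxc : (x : G) ∈ Subgroup.centralizer (D.UG : Set G) := by rw [cent_UG hT]; exact x.2
    intro y hy
    have h := hxc _ ((Subgroup.mem_normalizer_iff.1 ha y).1 hy)
    calc y * (a⁻¹ * (x : G) * a) = a⁻¹ * (a * y * a⁻¹ * x) * a := by group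
      _ = a⁻¹ * (x * (a * y * a⁻¹)) * a := by rw [h]
      _ = _ := by group
  rw [cent_UG hT, Subgroup.mem_centralizer_iff] at hmem
  let y : ↥(CW D) := ⟨⟨a⁻¹ * (x : G) * a, Subgroup.mem_centralizer_singleton_iff.2 (hmem z (Or.inr rfl)).symm⟩,
    (mem_CW hT).2 (Subtype.ext (hmem _ (Or.inl rfl)).symm)⟩
  have e1 : tw hT ψ ha y = ψ x := congrArg ψ (Subtype.ext (by show a * (a⁻¹ * (x : G) * a) * a⁻¹ = x; group))
  have e2 : tw hT ψ hb y = ψ x' := congrArg ψ (Subtype.ext (by
    rw [hx']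
    show b * (a⁻¹ * (x : G) * a) * b⁻¹ = _
    group))
  obtain ⟨k, hk, hyk, -⟩ := exists_decomp hT y
  refine ⟨k, hk, fun e => hne ?_⟩
  rw [← e1, ← e2, hyk, map_mul, map_mul, tw_u hT hψU, tw_u hT hψU, e]

end Tw

section Orth

variable [Finite Ω] {ψ ψ' : ↥(CW D) →* ℂˣ} (H : Chi D Ω i ψ) (H' : Chi D Ω i ψ') (θ θ' : Cz z →* ℂˣ)
include H H'

open Classical in
/-- The twisted sums of different characters are orthogonal. -/
theorem phi_orth (hθw : θ D.w = 1) (hθw' : θ' D.w = 1) {Ψ Ψ' : ↥(CW D) →* ℂˣ}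
    (hΨ : ∀ c : ↥(CW D), Ψ c = θ (c : Cz z) * ψ c) (hΨ' : ∀ c : ↥(CW D), Ψ' c = θ' (c : Cz z) * ψ' c)
    (h1 : ∃ k, Odd (orderOf k) ∧ Ψ k ≠ Ψ' k) (h2 : ∃ k, Odd (orderOf k) ∧ Ψ (nCW H.tor k) ≠ Ψ' k) :
    classInner (H.phi θ) (H'.phi θ') = 0 := by
  letI := Fintype.ofFinite ↥(CW D)
  have hconj : ∀ y : ↥(CW D), θ ((nCW H.tor y : ↥(CW D)) : Cz z) = θ (y : Cz z) := fun y => by
    rw [nCW_coe, map_mul, map_mul, map_inv, mul_comm (θ (D.core.n true))⁻¹, inv_mul_cancel_right]
  have hzero : ∀ (A : ↥(CW D) →* ℂˣ), (∃ k, Odd (orderOf k) ∧ A k ≠ Ψ' k) →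
      ∑ y : ↥(piU H.tor).ker, (A y : ℂ) * conj (Ψ' y : ℂ) = 0 := fun A ⟨k, hk, hne⟩ => by
    have hs := sum_units ((A * Ψ'⁻¹).comp (piU H.tor).ker.subtype)
    rw [if_neg fun e => hne ?_] at hs
    · refine Eq.trans (Finset.sum_congr rfl fun y _ => ?_) hs
      rw [conj_hom_apply, ← Units.val_mul, map_inv]
      rfl
    · have := DFunLike.congr_fun e ⟨k, MonoidHom.mem_ker.2 ((piU_odd_iff H.tor k).2 hk)⟩
      simpa [mul_inv_eq_one] using this
  have hl : ∀ (η : Cz z →* ℂˣ) (y : Cz z), (η y : ℂ) * conj (η y : ℂ) = 1 := fun η y => by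
    rw [conj_hom_apply, ← Units.val_mul, ← map_mul, mul_inv_cancel, map_one, Units.val_one]
  have hval : ∀ (j : Fin 4), ∑ y : ↥(piU H.tor).ker,
      (θ (D.w * ((y : ↥(CW D)) : Cz z)) : ℂ) * H.xi (ch D j) (D.w * ((y : ↥(CW D)) : Cz z)) * conj (Ψ' y : ℂ) = 0 := by
    intro j
    have e : ∀ y : ↥(piU H.tor).ker,
        (θ (D.w * ((y : ↥(CW D)) : Cz z)) : ℂ) * H.xi (ch D j) (D.w * ((y : ↥(CW D)) : Cz z)) * conj (Ψ' y : ℂ) =
          (ch D j H.wU : ℂ) * ((Ψ y : ℂ) * conj (Ψ' y : ℂ)) + (ch D j H.zU : ℂ) * (ch D j H.wU : ℂ) *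
            (((Ψ.comp (nCW H.tor)) y : ℂ) * conj (Ψ' y : ℂ)) := fun y => by
      rw [xi_wk H _ ((piU_odd_iff H.tor _).1 (MonoidHom.mem_ker.1 y.2)), map_mul θ, hθw, one_mul, MonoidHom.comp_apply,
        hΨ, hΨ, hconj, Units.val_mul, Units.val_mul]
      ring
    rw [Finset.sum_congr rfl fun y _ => e y, Finset.sum_add_distrib, ← Finset.mul_sum, ← Finset.mul_sum,
      hzero Ψ h1, hzero _ (by
        obtain ⟨k, hk, hne⟩ := h2
        exact ⟨k, hk, hne⟩), mul_zero, mul_zero, add_zero]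
  have hne' : ∀ l, ∑ y : ↥(piU H.tor).ker,
      (θ' (D.w * ((y : ↥(CW D)) : Cz z)) : ℂ) * H'.xi (ch D l) (D.w * ((y : ↥(CW D)) : Cz z)) * conj (Ψ' y : ℂ) ≠ 0 := by
    intro l h0
    refine xi_pairing H' (ch D l) ?_
    rw [Finset.sum_subtype (p := fun y => y ∈ (piU H.tor).ker) _ (fun y => by
      rw [MonoidHom.mem_ker, piU_odd_iff H.tor]
      simp [← Nat.not_even_iff_odd, even_iff_two_dvd])]
    refine Eq.trans (Finset.sum_congr rfl fun y _ => ?_) h0
    rw [map_mul θ', hθw', one_mul, hΨ', Units.val_mul, map_mul (starRingEnd ℂ)]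
    linear_combination -(H'.xi (ch D l) (D.w * ((y : ↥(CW D)) : Cz z)) * conj (ψ' y : ℂ)) * hl θ' ((y : ↥(CW D)) : Cz z)
  rw [phi_eq H θ, phi_eq H' θ', classInner_sum_left]
  refine Finset.sum_eq_zero fun j _ => ?_
  rw [classInner_smul_left, classInner_sum_right]
  refine mul_eq_zero_of_right _ (Finset.sum_eq_zero fun l _ => ?_)
  rw [classInner_smul_right]
  refine mul_eq_zero_of_right _ ?_
  obtain ⟨χ, ε, hε, e⟩ := eta_irr H θ j
  obtain ⟨χ', ε', hε', e'⟩ := eta_irr H' θ' l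
  rw [show (fun g => (θ g : ℂ) * H.xi (ch D j) g) = ε • (χ : Cz z → ℂ) from funext fun g => e g,
    show (fun g => (θ' g : ℂ) * H'.xi (ch D l) g) = ε' • (χ' : Cz z → ℂ) from funext fun g => e' g,
    classInner_smul_left, classInner_smul_right, classInner_irr_ne χ.2 χ'.2 fun heq => ?_, mul_zero, mul_zero]
  have hε0 : ε ≠ 0 := by rcases hε with rfl | rfl <;> norm_num
  refine hne' l ?_
  have hscale : ∀ g, (θ' g : ℂ) * H'.xi (ch D l) g = (ε' / ε) * ((θ g : ℂ) * H.xi (ch D j) g) := fun g => by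
    rw [e g, e' g, heq]
    field_simp
  rw [Finset.sum_congr rfl fun y _ => by rw [hscale, mul_assoc], ← Finset.mul_sum, hval j, mul_zero]

omit H' in
/-- The induced sum at the central involution. -/
theorem up_phi_z (hθz : θ D.zc = 1) : D.up (H.phi θ) z = 4 * ((D.Q : ℂ) + 1) := by
  classical
  obtain ⟨-, hcl, -, -, hzc⟩ := phi_facts H θ hθz
  have key : ∀ x : G, extendByZero (Subgroup.centralizer ({z} : Set G)) (H.phi θ) (x⁻¹ * z * x) =
      if x ∈ Subgroup.centralizer ({z} : Set G) then H.phi θ D.zc else 0 := by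
    intro x
    by_cases hm : x⁻¹ * z * x ∈ Subgroup.centralizer ({z} : Set G)
    · rw [extendByZero_of_mem _ _ hm]
      have ho : orderOf (⟨x⁻¹ * z * x, hm⟩ : Cz z) = 2 := by
        rw [← Subgroup.orderOf_coe]
        have := CfsgLib.Blocks.conj_orderOf x⁻¹ z
        rw [inv_inv] at this
        exact this.trans H.tor.spec.zord
      by_cases hx : x ∈ Subgroup.centralizer ({z} : Set G)
      · rw [if_pos hx]
        refine congrArg _ (Subtype.ext ?_)
        show x⁻¹ * z * x = (D.zc : G)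
        rw [H.tor.spec.zcv, mul_assoc, ← Subgroup.mem_centralizer_singleton_iff.1 hx, inv_mul_cancel_left]
      · rw [if_neg hx]
        rcases invol_cases H.tor.spec ho with e | e
        · refine absurd (Subgroup.mem_centralizer_singleton_iff.2 ?_) hx
          have e' : x⁻¹ * z * x = z := (congrArg Subtype.val e).trans H.tor.spec.zcv
          calc x * z = x * (x⁻¹ * z * x) := by rw [e']
            _ = z * x := by group
        · obtain ⟨c, hc⟩ := isConj_iff.1 e
          rw [← hc, hcl, Chi.phi, psum_zero H ?_, mul_zero]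
          have hp : p2 D.w = D.w := by
            have := p2_mul (two_of_mem H.tor.spec.core H.tor.spec.wT) (Commute.one_left D.w) (by simp)
            rwa [mul_one] at this
          rw [hp]
          exact fun e' => H.tor.spec.wZ (e' ▸ H.tor.spec.zcZ)
    · rw [extendByZero_of_not_mem _ _ hm, if_neg fun hx => hm (mul_mem (mul_mem (inv_mem hx)
        (Subgroup.mem_centralizer_singleton_iff.2 rfl)) hx)]
  rw [Sys.up, indFun, Finset.sum_congr rfl fun x _ => key x, ← Finset.sum_filter, Finset.sum_const, nsmul_eq_mul,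
    ← Fintype.card_subtype, ← Nat.card_eq_fintype_card, ← mul_assoc,
    inv_mul_cancel₀ (Nat.cast_ne_zero.2 (Nat.card_pos (α := Cz z)).ne'), one_mul, hzc]

end Orth

end CfsgLib.RankTwoModel.L4.Moved
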