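import Cfsg.Agent.Lib.RankTwoModel.L4.Moved.Stab

/-!
The moved functions on `C` (blueprint/RankTwo_L45.md, D2).

* `Chi`: a character of `CW` trivial on the core and on the four group, moved by `n true`;
* `delta`, `xi`: the function on `HW` and the function on `C` of a character of the four group;
* `ind_HW`, `xi_norm`: the induced function on `HW`, and the norm one.
-/

set_option autoImplicit false
set_option linter.unusedSectionVars false
set_option linter.style.haveILetI false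

namespace CfsgLib.RankTwoModel.L4.Moved

open Cfsg CfsgLib.BrauerOrder CfsgLib.CharTheory
open scoped ComplexConjugate

universe u v

variable {G : Type u} [Group G] [Fintype G] {z : G} [Fintype (Cz z)] {Ω : Type v} [MulAction (Cz z) Ω]
  [Finite Ω] {D : Sys G z} {i : ℕ}

theorem sum_units {A : Type*} [Group A] [Fintype A] (χ : A →* ℂˣ) [Decidable (χ = 1)] :
    ∑ a : A, (χ a : ℂ) = if χ = 1 then (Nat.card A : ℂ) else 0 := by
  split_ifs with h
  · simp [h]
  · exact sum_hom_units_eq_zero ((Units.coeHom ℂ).comp χ) fun e => h (MonoidHom.ext fun v =>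
      Units.ext (DFunLike.congr_fun e v))

/-- A moved character of the centraliser of the second involution. -/
structure Chi (D : Sys G z) (Ω : Type v) [MulAction (Cz z) Ω] (i : ℕ) (ψ : ↥(CW D) →* ℂˣ) : Prop where
  tor : Tor D Ω i
  core : ∀ c : ↥(CW D), (c : Cz z) ∈ D.core.O → ψ c = 1
  four : ∀ t, ψ (uCW tor t) = 1
  moved : ψ.comp (nCW tor) ≠ ψ

variable {ψ : ↥(CW D) →* ℂˣ} (H : Chi D Ω i ψ)
include H

/-- The extension to `HW`. -/
noncomputable def Chi.lamh : ↥(HW D) →* ℂˣ := ext H.tor H.core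

theorem lamh_of_mem {c : ↥(CW D)} {h : ↥(HW D)} (hh : (c : Cz z)⁻¹ * (h : Cz z) ∈ D.core.O) :
    H.lamh h = ψ c :=
  ext_of_mem H.tor _ hh

theorem lamh_u (t : ↥(D.core.T true)) : H.lamh (uHW H.tor t) = 1 := by
  rw [lamh_of_mem H (c := uCW H.tor t) (by show (t : Cz z)⁻¹ * (t : Cz z) ∈ _; rw [inv_mul_cancel]; exact one_mem _),
    H.four]

theorem nHW_u (t : ↥(D.core.T true)) : nHW H.tor (uHW H.tor t) =
    uHW H.tor ⟨D.core.n true * t * (D.core.n true)⁻¹, H.tor.spec.core.nnorm true t t.2⟩ :=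
  Subtype.ext (n_inv_conj H.tor t.2)

/-- The odd part separates the character from its conjugate. -/
theorem exists_moved : ∃ k : ↥(CW D), Odd (orderOf k) ∧ ψ (nCW H.tor k) ≠ ψ k := by
  by_contra hc
  push Not at hc
  refine H.moved (MonoidHom.ext fun c => ?_)
  obtain ⟨k, hk, hck, -⟩ := exists_decomp H.tor c
  show ψ (nCW H.tor c) = ψ c
  have hu : nCW H.tor (uCW H.tor (piU H.tor c)) = uCW H.tor ⟨D.core.n true * (piU H.tor c : Cz z) *
      (D.core.n true)⁻¹, H.tor.spec.core.nnorm true _ (piU H.tor c).2⟩ :=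
    Subtype.ext (n_inv_conj H.tor (piU H.tor c).2)
  rw [hck, map_mul, map_mul, map_mul, hu, H.four, H.four, hc k hk]

/-- The function on `HW`. -/
noncomputable def Chi.delta (μ : ↥(D.core.T true) →* ℂˣ) : ↥(HW D) → ℂ :=
  fun h => (μ (rho H.tor h) : ℂ) * ((H.lamh h : ℂ) - 1)

/-- The moved function on `C`. -/
noncomputable def Chi.xi (μ : ↥(D.core.T true) →* ℂˣ) : Cz z → ℂ :=
  D.core.R Ω true μ + indFun (HW D) (H.delta μ)

theorem delta_conj (μ : ↥(D.core.T true) →* ℂˣ) (h y : ↥(HW D)) : H.delta μ (y * h * y⁻¹) = H.delta μ h := by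
  simp only [Chi.delta, map_mul, map_inv, mul_comm (H.lamh y), mul_inv_cancel_right]
  rw [mul_comm (μ (rho H.tor y)), mul_inv_cancel_right]

theorem delta_zero {μ : ↥(D.core.T true) →* ℂˣ} {h : ↥(HW D)} (hl : H.lamh h = 1) : H.delta μ h = 0 := by
  simp [Chi.delta, hl]

/-- An element with a non-zero value is moved into `HW` only by `HW ∪ n HW`. -/
theorem cases_of_delta {μ : ↥(D.core.T true) →* ℂˣ} {g : Cz z} {h : ↥(HW D)} (hd : H.delta μ h ≠ 0)
    (hg : g * (h : Cz z) * g⁻¹ ∈ HW D) : g ∈ HW D ∨ (D.core.n true)⁻¹ * g ∈ HW D := by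
  obtain ⟨c, hc⟩ := exists_rep H.tor h
  refine mem_HW_cases H.tor hc (fun hO => hd (delta_zero H ?_)) hg
  have := H.core _ hO
  rw [map_mul, map_inv, H.four, inv_one, one_mul] at this
  rw [lamh_of_mem H hc, this]

open Classical in
/-- The induced function on `HW`. -/
theorem ind_HW (μ : ↥(D.core.T true) →* ℂˣ) (h : ↥(HW D)) :
    indFun (HW D) (H.delta μ) (h : Cz z) = H.delta μ h + H.delta μ (nHW H.tor h) := by
  set n := D.core.n true with hn
  have hterm : ∀ x : Cz z, extendByZero (HW D) (H.delta μ) (x⁻¹ * (h : Cz z) * x) =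
      (if x ∈ HW D then H.delta μ h else 0) + (if n⁻¹ * x ∈ HW D then H.delta μ (nHW H.tor h) else 0) := by
    intro x
    by_cases hx : x ∈ HW D
    · have hx' : n⁻¹ * x ∉ HW D := fun hh => n_not_mem_HW H.tor (by
        have := mul_mem hx (inv_mem hh)
        rwa [mul_inv_rev, mul_inv_cancel_left, inv_inv] at this)
      rw [if_pos hx, if_neg hx', add_zero,
        extendByZero_of_mem _ _ (mul_mem (mul_mem (inv_mem hx) h.2) hx)]
      refine Eq.trans (congrArg _ (Subtype.ext ?_)) (delta_conj H μ h ⟨x, hx⟩⁻¹)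
      simp
    · rw [if_neg hx, zero_add]
      by_cases hx' : n⁻¹ * x ∈ HW D
      · rw [if_pos hx']
        have hm : x⁻¹ * (h : Cz z) * x ∈ HW D := by
          rw [show x⁻¹ * (h : Cz z) * x = (n⁻¹ * x)⁻¹ * (n⁻¹ * h * n) * (n⁻¹ * x) by group]
          exact mul_mem (mul_mem (inv_mem hx') (n_conj_HW H.tor h.2).2) hx'
        rw [extendByZero_of_mem _ _ hm]
        refine Eq.trans (congrArg _ (Subtype.ext ?_)) (delta_conj H μ (nHW H.tor h) ⟨n⁻¹ * x, hx'⟩⁻¹)
        simp only [Subgroup.coe_mul, InvMemClass.coe_inv, nHW_coe, inv_inv, ← hn]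
        group
      · rw [if_neg hx']
        by_cases hm : x⁻¹ * (h : Cz z) * x ∈ HW D
        · rw [extendByZero_of_mem _ _ hm]
          by_contra hne
          exact (cases_of_delta H hne (g := x) (by
            show x * (x⁻¹ * (h : Cz z) * x) * x⁻¹ ∈ HW D
            rw [show x * (x⁻¹ * (h : Cz z) * x) * x⁻¹ = (h : Cz z) by group]
            exact h.2)).elim hx hx'
        · exact extendByZero_of_not_mem _ _ hm
  have hsum : ∀ c : ℂ, ∑ x : Cz z, (if n⁻¹ * x ∈ HW D then c else 0) = ∑ x : Cz z, (if x ∈ HW D then c else 0) :=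
    fun c => Fintype.sum_equiv (Equiv.mulLeft n⁻¹) _ _ fun x => rfl
  have hone : ∀ c : ℂ, ∑ x : Cz z, (if x ∈ HW D then c else 0) = (Nat.card ↥(HW D) : ℂ) * c := fun c => by
    rw [← Finset.sum_filter, Finset.sum_const, nsmul_eq_mul, ← Fintype.card_subtype, ← Nat.card_eq_fintype_card]
  rw [indFun, Finset.sum_congr rfl fun x _ => hterm x, Finset.sum_add_distrib, hsum, hone, hone, ← mul_add,
    ← mul_assoc, inv_mul_cancel₀ (Nat.cast_ne_zero.2 (Nat.card_pos (α := ↥(HW D))).ne'), one_mul]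

theorem delta_gen [Fintype ↥(HW D)] (μ : ↥(D.core.T true) →* ℂˣ) :
    IsGeneralizedCharacter ↥(HW D) (H.delta μ) := by
  have e : H.delta μ = (fun h => (((μ.comp (rho H.tor)) * H.lamh) h : ℂ)) - fun h => ((μ.comp (rho H.tor)) h : ℂ) := by
    funext h
    simp only [Chi.delta, Pi.sub_apply, MonoidHom.mul_apply, MonoidHom.comp_apply, Units.val_mul]
    ring
  rw [e]
  exact isGenChar_sub (isGenChar_of_char (isCharacter_of_irr (isIrrCharacter_linear _)))
    (isGenChar_of_char (isCharacter_of_irr (isIrrCharacter_linear _)))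

theorem xi_gen (μ : ↥(D.core.T true) →* ℂˣ) : IsGeneralizedCharacter (Cz z) (H.xi μ) := by
  letI := Fintype.ofFinite ↥(HW D)
  exact isGenChar_add (hgen_all H.tor.spec true μ) (isGenChar_indFun _ (delta_gen H μ))

theorem xi_one (μ : ↥(D.core.T true) →* ℂˣ) : H.xi μ 1 = (D.Q : ℂ) + 1 := by
  have hp : p2 (1 : Cz z) = 1 := by
    have := p2_mul (t := (1 : Cz z)) (v := 1) ⟨0, by simp⟩ (Commute.refl 1) (by simp)
    rwa [mul_one] at this
  have hs : St Ω (1 : Cz z) = (D.core.q : ℂ) := by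
    have : MulAction.fixedBy Ω (1 : Cz z) = Set.univ := by ext a; simp
    rw [St, this, Nat.card_congr (Equiv.Set.univ Ω), H.tor.spec.core.card]
    push_cast; ring
  rw [Chi.xi, Pi.add_apply, indFun_apply_one, delta_zero H (map_one _), mul_zero, add_zero,
    R_reg H.tor.spec true μ (by rw [hp]; exact one_mem _), hs, Sys.Q]
  push_cast; ring

section Sums

variable [Fintype ↥(rho H.tor).ker]

/-- The restriction to the kernel. -/
noncomputable def Chi.l1 : ↥(rho H.tor).ker →* ℂˣ := H.lamh.comp (rho H.tor).ker.subtype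

/-- The conjugate restriction to the kernel. -/
noncomputable def Chi.l2 : ↥(rho H.tor).ker →* ℂˣ := (H.lamh.comp (nHW H.tor)).comp (rho H.tor).ker.subtype

theorem l_ne : H.l1 ≠ 1 ∧ H.l2 ≠ 1 ∧ H.l1 ≠ H.l2 := by
  obtain ⟨k, hk, hne⟩ := exists_moved H
  have hmem : ∀ c : ↥(CW D), Odd (orderOf c) → (⟨c, CW_le_HW H.tor c.2⟩ : ↥(HW D)) ∈ (rho H.tor).ker := fun c hc =>
    (rho_eq_one_iff H.tor _).2 (by rwa [← Subgroup.orderOf_coe, Subgroup.orderOf_coe c])
  have e1 : ∀ c (hc : Odd (orderOf c)), H.l1 ⟨_, hmem c hc⟩ = ψ c := fun c hc =>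
    lamh_of_mem H (by show (c : Cz z)⁻¹ * (c : Cz z) ∈ _; rw [inv_mul_cancel]; exact one_mem _)
  have e2 : ∀ c (hc : Odd (orderOf c)), H.l2 ⟨_, hmem c hc⟩ = ψ (nCW H.tor c) := fun c hc =>
    lamh_of_mem H (by
      show ((nCW H.tor c : ↥(CW D)) : Cz z)⁻¹ * ((D.core.n true)⁻¹ * (c : Cz z) * D.core.n true) ∈ _
      rw [nCW_coe, inv_mul_cancel]; exact one_mem _)
  have hk' : Odd (orderOf (nCW H.tor k)) := hk.of_dvd_nat (orderOf_map_dvd _ _)
  refine ⟨fun e => hne ?_, fun e => hne ?_, fun e => hne ?_⟩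
  · rw [← e1 _ hk', ← e1 _ hk, e]; rfl
  · have hnn : ∀ c : ↥(CW D), Odd (orderOf c) → ψ (nCW H.tor c) = 1 := fun c hc => by rw [← e2 c hc, e]; rfl
    set c : ↥(CW D) := ⟨D.core.n true * k * (D.core.n true)⁻¹, (n_conj_CW H.tor k.2).1⟩
    have hc : nCW H.tor c = k := Subtype.ext (by
      rw [nCW_coe, show (c : Cz z) = D.core.n true * k * (D.core.n true)⁻¹ from rfl]; group)
    have hco : Odd (orderOf c) := by
      rwa [← Subgroup.orderOf_coe, show (c : Cz z) = D.core.n true * k * (D.core.n true)⁻¹ from rfl, CfsgLib.Blocks.conj_orderOf,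
        Subgroup.orderOf_coe]
    have h1 := hnn c hco
    rw [hc] at h1
    rw [hnn k hk, h1]
  · rw [← e1 _ hk, ← e2 _ hk, e]

theorem sum_l_mul_conj (a b : ↥(rho H.tor).ker →* ℂˣ) [Decidable (a = b)] :
    ∑ m, (a m : ℂ) * conj (b m : ℂ) = if a = b then (Nat.card ↥(rho H.tor).ker : ℂ) else 0 := by
  classical
  have h := classInner_irr (isIrrCharacter_linear a) (isIrrCharacter_linear b)
  rw [classInner, inv_mul_eq_iff_eq_mul₀ (Nat.cast_ne_zero.2 Nat.card_pos.ne')] at h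
  rw [h]
  by_cases hab : a = b
  · subst hab; simp
  · rw [if_neg (fun e => hab (MonoidHom.ext fun x => Units.ext (congrFun e x))), if_neg hab, mul_zero]

theorem ker_sums :
    (∑ m, ((H.l1 m : ℂ) - 1) = -(Nat.card ↥(rho H.tor).ker : ℂ)) ∧
    (∑ m, ((H.l1 m : ℂ) - 1) * conj ((H.l1 m : ℂ) - 1) = 2 * (Nat.card ↥(rho H.tor).ker : ℂ)) ∧
    (∑ m, ((H.l1 m : ℂ) - 1) * conj ((H.l2 m : ℂ) - 1) = (Nat.card ↥(rho H.tor).ker : ℂ)) := by
  classical
  obtain ⟨n1, n2, n12⟩ := l_ne H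
  have hM : ∑ _m : ↥(rho H.tor).ker, (1 : ℂ) = (Nat.card ↥(rho H.tor).ker : ℂ) := by
    rw [Finset.sum_const, Finset.card_univ, nsmul_eq_mul, mul_one, ← Nat.card_eq_fintype_card]
  have s : ∀ a : ↥(rho H.tor).ker →* ℂˣ, a ≠ 1 → ∑ m, (a m : ℂ) = 0 ∧ ∑ m, conj (a m : ℂ) = 0 := fun a ha => by
    have h1 := sum_l_mul_conj H a 1
    have h2 := sum_l_mul_conj H 1 a
    simp only [MonoidHom.one_apply, Units.val_one, map_one, mul_one, one_mul, if_neg ha, if_neg (Ne.symm ha)] at h1 h2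
    exact ⟨h1, h2⟩
  have e11 := sum_l_mul_conj H H.l1 H.l1
  have e12 := sum_l_mul_conj H H.l1 H.l2
  rw [if_pos rfl] at e11
  rw [if_neg n12] at e12
  refine ⟨?_, ?_, ?_⟩
  · rw [Finset.sum_sub_distrib, (s _ n1).1, hM, zero_sub]
  all_goals
    simp only [map_sub, map_one, sub_mul, mul_sub, mul_one, one_mul, Finset.sum_sub_distrib, (s _ n1).1,
      (s _ n1).2, (s _ n2).2, hM, e11, e12]
    ring

open Classical in
theorem sum_stab (c : Ω) : ∃ k : ℕ,
    ∑ m ∈ Finset.univ.filter (fun m : ↥(rho H.tor).ker => ((m : ↥(HW D)) : Cz z) • c = c), ((H.l1 m : ℂ) - 1) =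
      -(k : ℂ) ∧
    ((∀ m : ↥(rho H.tor).ker, ((m : ↥(HW D)) : Cz z) • c = c → H.l1 m = 1) → k = 0) ∧
    ((∀ m : ↥(rho H.tor).ker, ((m : ↥(HW D)) : Cz z) • c = c) → k = Nat.card ↥(rho H.tor).ker) := by
  classical
  set P : Subgroup ↥(rho H.tor).ker :=
    (MulAction.stabilizer (Cz z) c).comap ((HW D).subtype.comp (rho H.tor).ker.subtype)
  have hs : ∑ m ∈ Finset.univ.filter (fun m : ↥(rho H.tor).ker => ((m : ↥(HW D)) : Cz z) • c = c),
      ((H.l1 m : ℂ) - 1) = ∑ m : ↥P, ((H.l1 m : ℂ) - 1) :=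
    Finset.sum_subtype _ (fun m => by simp [P, MulAction.mem_stabilizer_iff]) _
  rw [hs, Finset.sum_sub_distrib, Finset.sum_const, Finset.card_univ, nsmul_eq_mul, mul_one,
    ← Nat.card_eq_fintype_card]
  have hsum : ∑ m : ↥P, (H.l1 m : ℂ) = if H.l1.comp P.subtype = 1 then (Nat.card ↥P : ℂ) else 0 :=
    sum_units (H.l1.comp P.subtype)
  rw [hsum]
  split_ifs with h1
  · refine ⟨0, by simp, fun _ => rfl, fun hall => ?_⟩
    exact absurd (MonoidHom.ext fun m => DFunLike.congr_fun h1 ⟨m, hall m⟩) (l_ne H).1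
  · refine ⟨Nat.card ↥P, by ring, fun h => (h1 (MonoidHom.ext fun m : ↥P => h (m : ↥(rho H.tor).ker) m.2)).elim,
      fun hall => ?_⟩
    exact Nat.card_congr (Equiv.subtypeUnivEquiv hall)

/-- The fixed points against the character. -/
theorem fix_sum : ∃ k : ℕ,
    ∑ m : ↥(rho H.tor).ker, (Nat.card (MulAction.fixedBy Ω ((m : ↥(HW D)) : Cz z)) : ℂ) * ((H.l1 m : ℂ) - 1) =
      -(k : ℂ) ∧
    (D.core.σ true = 1 → 2 * Nat.card ↥(rho H.tor).ker ≤ k) ∧ (D.core.σ true = -1 → k = 0) := by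
  classical
  letI := Fintype.ofFinite Ω
  choose k hk1 hk2 hk3 using sum_stab H
  refine ⟨∑ c : Ω, k c, ?_, fun hσ => ?_, fun hσ => ?_⟩
  · push_cast
    rw [← Finset.sum_neg_distrib, Finset.sum_congr rfl fun c _ => (hk1 c).symm]
    simp only [Finset.sum_filter]
    rw [Finset.sum_comm]
    refine Finset.sum_congr rfl fun m _ => ?_
    rw [← Finset.sum_filter, Finset.sum_const, nsmul_eq_mul, ← Fintype.card_subtype, ← Nat.card_eq_fintype_card]
    rfl
  · obtain ⟨a, b, hab, hfix⟩ := fix_two H.tor hσ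
    have h2 : ∀ c ∈ ({a, b} : Finset Ω), k c = Nat.card ↥(rho H.tor).ker := fun c hc => hk3 c fun m => by
      have h := hfix m ((rho_eq_one_iff H.tor _).1 m.2)
      rcases Finset.mem_insert.1 hc with rfl | hc
      exacts [h.1, (Finset.mem_singleton.1 hc) ▸ h.2]
    refine le_trans (le_of_eq ?_) (Finset.sum_le_univ_sum_of_nonneg (s := ({a, b} : Finset Ω)) (fun c => Nat.zero_le _))
    rw [Finset.sum_congr rfl h2, Finset.sum_const, Finset.card_pair hab, smul_eq_mul]
  · refine Finset.sum_eq_zero fun c _ => hk2 c fun m hm => ?_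
    show H.lamh (m : ↥(HW D)) = 1
    rw [lamh_of_mem H (c := 1) (by
      simpa using mem_O_of_fix H.tor hσ ((rho_eq_one_iff H.tor _).1 m.2) hm), map_one]

end Sums

open Classical in
/-- **The moved function has norm one.** -/
theorem xi_norm (μ : ↥(D.core.T true) →* ℂˣ) : classInner (H.xi μ) (H.xi μ) = 1 := by
  letI := Fintype.ofFinite ↥(HW D)
  letI := Fintype.ofFinite ↥(D.core.T true)
  letI := Fintype.ofFinite ↥(rho H.tor).ker
  have hD := H.tor.spec
  set M : ℕ := Nat.card ↥(rho H.tor).ker with hMdef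
  have hM0 : (M : ℂ) ≠ 0 := Nat.cast_ne_zero.2 Nat.card_pos.ne'
  set μ' := D.core.conjChar (hD.core.nnorm true) μ with hμ'
  set e : ℂ := if μ' = μ then 1 else 0 with he
  have hU4 : Nat.card ↥(D.core.T true) = 4 := by rw [hD.cardU, H.tor.h2]; norm_num
  have hHW : (Nat.card ↥(HW D) : ℂ) = 4 * M := by
    have h := sum_HW H.tor (fun _ => (1 : ℂ))
    simp only [Finset.sum_const, Finset.card_univ, nsmul_eq_mul, mul_one, ← Nat.card_eq_fintype_card] at h
    rw [h, hU4]; norm_num [hMdef]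
  have horth : ∑ t, (μ t : ℂ) * conj (μ' t : ℂ) = 4 * e := by
    have h := classInner_irr (isIrrCharacter_linear μ) (isIrrCharacter_linear μ')
    rw [classInner, inv_mul_eq_iff_eq_mul₀ (Nat.cast_ne_zero.2 Nat.card_pos.ne'), hU4] at h
    rw [h, he]
    norm_num
    refine if_congr ⟨fun h => (MonoidHom.ext fun t => Units.ext (congrFun h t)).symm, fun h => h ▸ rfl⟩ rfl rfl
  have habs : ∀ t, (μ t : ℂ) * conj (μ t : ℂ) = 1 := fun t => by
    rw [conj_hom_apply, ← Units.val_mul, ← map_mul, mul_inv_cancel, map_one, Units.val_one]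
  have hdl : ∀ t (m : ↥(rho H.tor).ker), H.delta μ (uHW H.tor t * m) = (μ t : ℂ) * ((H.l1 m : ℂ) - 1) := fun t m => by
    simp only [Chi.delta, rho_u_mul]
    rw [map_mul, lamh_u, one_mul]
    rfl
  have hdn : ∀ t (m : ↥(rho H.tor).ker),
      H.delta μ (nHW H.tor (uHW H.tor t * m)) = (μ' t : ℂ) * ((H.l2 m : ℂ) - 1) := fun t m => by
    have e1 : rho H.tor (nHW H.tor (uHW H.tor t * m)) =
        ⟨D.core.n true * t * (D.core.n true)⁻¹, hD.core.nnorm true t t.2⟩ :=
      Subtype.ext (by rw [rho_nHW, rho_u_mul])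
    simp only [Chi.delta, e1]
    rw [map_mul (nHW H.tor), map_mul, nHW_u H, lamh_u, one_mul]
    rfl
  obtain ⟨s1, s11, s12⟩ := ker_sums H
  rw [← hMdef] at s1 s11 s12
  -- the induced function
  have hII : classInner (indFun (HW D) (H.delta μ)) (indFun (HW D) (H.delta μ)) = 2 + e := by
    rw [frobenius_reciprocity _ _ (indFun_isClassFunction _ _), classInner, hHW, sum_HW H.tor]
    simp only [ind_HW H, hdl, hdn]
    have e2 : ∀ t, ∑ m : ↥(rho H.tor).ker, (μ t : ℂ) * ((H.l1 m : ℂ) - 1) *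
        conj ((μ t : ℂ) * ((H.l1 m : ℂ) - 1) + (μ' t : ℂ) * ((H.l2 m : ℂ) - 1)) =
        2 * (M : ℂ) + (μ t : ℂ) * conj (μ' t : ℂ) * M := fun t => by
      calc ∑ m : ↥(rho H.tor).ker, (μ t : ℂ) * ((H.l1 m : ℂ) - 1) *
            conj ((μ t : ℂ) * ((H.l1 m : ℂ) - 1) + (μ' t : ℂ) * ((H.l2 m : ℂ) - 1))
          = ∑ m : ↥(rho H.tor).ker, ((μ t : ℂ) * conj (μ t : ℂ) * (((H.l1 m : ℂ) - 1) * conj ((H.l1 m : ℂ) - 1)) +
              (μ t : ℂ) * conj (μ' t : ℂ) * (((H.l1 m : ℂ) - 1) * conj ((H.l2 m : ℂ) - 1))) :=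
            Finset.sum_congr rfl fun m _ => by rw [map_add, map_mul, map_mul]; ring
        _ = _ := by rw [Finset.sum_add_distrib, ← Finset.mul_sum, ← Finset.mul_sum, s11, s12, habs, one_mul]
    rw [Finset.sum_congr rfl fun t _ => e2 t, Finset.sum_add_distrib, Finset.sum_const, Finset.card_univ,
      nsmul_eq_mul, ← Nat.card_eq_fintype_card, hU4, ← Finset.sum_mul, horth]
    field_simp
    ring
  -- the mixed product
  obtain ⟨k0, hk0, hkp, hkn⟩ := fix_sum H
  set σ := D.core.σ true with hσdef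
  set A : ℂ := -(M : ℂ) * (1 - (σ : ℂ)) - (σ : ℂ) * k0 with hA
  have hAsum : ∑ m : ↥(rho H.tor).ker,
      ((H.l1 m : ℂ) - 1) * (1 + (σ : ℂ) * St Ω ((m : ↥(HW D)) : Cz z)) = A := by
    calc ∑ m : ↥(rho H.tor).ker, ((H.l1 m : ℂ) - 1) * (1 + (σ : ℂ) * St Ω ((m : ↥(HW D)) : Cz z))
        = ∑ m : ↥(rho H.tor).ker, ((1 - (σ : ℂ)) * ((H.l1 m : ℂ) - 1) + (σ : ℂ) *
            ((Nat.card (MulAction.fixedBy Ω ((m : ↥(HW D)) : Cz z)) : ℂ) * ((H.l1 m : ℂ) - 1))) :=
          Finset.sum_congr rfl fun m _ => by rw [St]; ring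
      _ = A := by rw [Finset.sum_add_distrib, ← Finset.mul_sum, ← Finset.mul_sum, s1, hk0, hA]; ring
  have hIR : classInner (indFun (HW D) (H.delta μ)) (D.core.R Ω true μ) = A / (2 * M) - e := by
    rw [frobenius_reciprocity _ _ (R_isClassFunction hD.core true μ), classInner, hHW, sum_HW H.tor]
    simp only [hdl]
    have hz : ∀ t : ↥(D.core.T true), (t : Cz z) ∈ D.core.Z → μ' t = μ t := fun t ht =>
      congrArg μ (Subtype.ext ((hD.core.nfix true _ t.2).2 ht))
    have e2 : ∀ t : ↥(D.core.T true), ∑ m : ↥(rho H.tor).ker, (μ t : ℂ) * ((H.l1 m : ℂ) - 1) *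
        conj (D.core.R Ω true μ ((uHW H.tor t * m : ↥(HW D)) : Cz z)) =
        -(M : ℂ) * (1 + (μ t : ℂ) * conj (μ' t : ℂ)) + (if (t : Cz z) ∈ D.core.Z then A + 2 * M else 0) := by
      intro t
      by_cases ht : (t : Cz z) ∈ D.core.Z
      · rw [if_pos ht, hz t ht, habs, Finset.sum_congr rfl fun m _ => by
          rw [R_Z H.tor μ t m ht, map_mul, conj_one_add_St,
            show (μ t : ℂ) * ((H.l1 m : ℂ) - 1) * (conj (μ t : ℂ) * (1 + (σ : ℂ) * St Ω ((m : ↥(HW D)) : Cz z))) =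
              (μ t : ℂ) * conj (μ t : ℂ) * (((H.l1 m : ℂ) - 1) * (1 + (σ : ℂ) * St Ω ((m : ↥(HW D)) : Cz z))) by ring,
            habs, one_mul], hAsum]
        ring
      · rw [if_neg ht, add_zero, Finset.sum_congr rfl fun m _ => by
          rw [R_out H.tor μ _ (by rwa [rho_u_mul]), rho_u_mul, ← hμ', map_add,
            show (μ t : ℂ) * ((H.l1 m : ℂ) - 1) * (conj (μ t : ℂ) + conj (μ' t : ℂ)) =
              ((μ t : ℂ) * conj (μ t : ℂ) + (μ t : ℂ) * conj (μ' t : ℂ)) * ((H.l1 m : ℂ) - 1) by ring,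
            habs], ← Finset.mul_sum, s1]
        ring
    have hfilter : (Finset.univ.filter fun t : ↥(D.core.T true) => (t : Cz z) ∈ D.core.Z).card = 2 := by
      rw [← Fintype.card_subtype, ← Nat.card_eq_fintype_card, ← H.tor.h2]
      exact Nat.card_congr (Subgroup.subgroupOfEquivOfLe (hD.core.zle true)).toEquiv
    rw [Finset.sum_congr rfl fun t _ => e2 t, Finset.sum_add_distrib, ← Finset.mul_sum, Finset.sum_add_distrib,
      horth, ← Finset.sum_filter, Finset.sum_const, Finset.sum_const, hfilter, Finset.card_univ,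
      ← Nat.card_eq_fintype_card, hU4]
    simp only [nsmul_eq_mul]
    push_cast
    field_simp
    ring
  have hRI : classInner (D.core.R Ω true μ) (indFun (HW D) (H.delta μ)) = A / (2 * M) - e := by
    rw [← classInner_comm, hIR]
    have hcA : conj A = A := by simp [hA]
    have hce : conj e = e := by rw [he]; split_ifs <;> simp
    simp [hcA, hce, map_div₀, Complex.conj_ofNat]
  have hRR : classInner (D.core.R Ω true μ) (D.core.R Ω true μ) = 1 + e := by
    rw [classInner_R_R hD.core, if_pos rfl, he]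
    congr 1
    split_ifs <;> rfl
  have hnorm : classInner (H.xi μ) (H.xi μ) = 2 + (σ : ℂ) - (σ : ℂ) * k0 / M := by
    rw [Chi.xi, classInner_add_left, classInner_add_right, classInner_add_right, hRR, hII, hIR, hRI, hA]
    field_simp
    ring
  obtain ⟨n, hn, hn0⟩ := norm_int (xi_gen H μ)
  rcases hD.core.sgn true with hσ | hσ
  · have hk := hkp hσ
    have hnk : (n : ℂ) * M + k0 = 3 * M := by
      rw [← hn, hnorm, show (σ : ℂ) = 1 by rw [hσdef, hσ]; norm_num]
      field_simp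
      ring
    have hnk' : n * M + k0 = 3 * M := by exact_mod_cast hnk
    have hle : n * M ≤ 1 * M := by
      rw [← hMdef] at hk
      rw [one_mul]
      omega
    replace hle : n ≤ 1 := Nat.le_of_mul_le_mul_right hle (Nat.card_pos (α := ↥(rho H.tor).ker))
    have hne : n ≠ 0 := fun e0 => by
      have h1 := xi_one H μ
      rw [hn0 e0, Pi.zero_apply, Sys.Q, hσ] at h1
      have : (1 : ℤ) * (D.core.q : ℤ) + 1 = 0 := by exact_mod_cast h1.symm
      omega
    rw [hn, show n = 1 by omega, Nat.cast_one]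
  · rw [hnorm, show (σ : ℂ) = -1 by rw [hσdef, hσ]; norm_num, hkn hσ]
    simp
    norm_num

theorem xi_signed (μ : ↥(D.core.T true) →* ℂˣ) : IsSignedIrr (H.xi μ) :=
  irr_or_neg_of_norm_one (xi_gen H μ) (xi_norm H μ)

end CfsgLib.RankTwoModel.L4.Moved
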