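import Cfsg.Agent.Lib.RankTwoModel.L4.Moved.Values
import Cfsg.Agent.Lib.RankTwoModel.L4.Moved.Blocks
import Cfsg.Agent.Lib.CharTheory.AbelianInertia

/-!
The alternating sum twisted by a linear character of `C` and its blocks (blueprint/RankTwo_L45.md, D2).

* `phi`: the twisted sum; `phi_facts`: support, norm and the value at the central involution;
* `phi_weight`: its weighted squares at `w`;
* `phi_block`: the constituents of the induced function lie in the block induced from the character.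
-/

set_option autoImplicit false
set_option linter.unusedSectionVars false
set_option linter.style.haveILetI false

namespace CfsgLib.RankTwoModel.L4.Moved

open Cfsg CfsgLib.BrauerOrder CfsgLib.CharTheory CfsgLib.Blocks
open scoped ComplexConjugate

universe u v

variable {G : Type u} [Group G] [Fintype G] {z : G} [Fintype (Cz z)] {Ω : Type v} [MulAction (Cz z) Ω]
  [Finite Ω] {D : Sys G z} {i : ℕ} {ψ : ↥(CW D) →* ℂˣ} (H : Chi D Ω i ψ) (θ : Cz z →* ℂˣ)
  (hθz : θ D.zc = 1) (hθw : θ D.w = 1)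
include H

/-- The twisted alternating sum. -/
noncomputable def Chi.phi : Cz z → ℂ := fun g => (θ g : ℂ) * H.psum g

/-- The twisted functions are irreducible up to sign. -/
theorem eta_irr (j : Fin 4) : ∃ (χ : IrrCharacter (Cz z)) (ε : ℂ),
    (ε = 1 ∨ ε = -1) ∧ ∀ g, (θ g : ℂ) * H.xi (ch D j) g = ε * (χ : Cz z → ℂ) g := by
  obtain ⟨χ, ε, hε, e⟩ := xi_irr H (ch D j)
  refine ⟨⟨fun g => (χ : Cz z → ℂ) g * (θ g : ℂ), isIrrCharacter_mul_linear χ.2 (isIrrCharacter_linear θ) (by simp)⟩,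
    ε, hε, fun g => ?_⟩
  rw [congrFun e g, Pi.smul_apply, smul_eq_mul]
  ring

/-- The twisted sum as a combination. -/
theorem phi_eq : H.phi θ = ∑ j, sg j • (fun g => (θ g : ℂ) * H.xi (ch D j) g) := by
  funext g
  simp only [Chi.phi, Chi.psum, Finset.sum_apply, Pi.smul_apply, smul_eq_mul, Finset.mul_sum]
  exact Finset.sum_congr rfl fun j _ => by ring

include hθz in
theorem phi_facts : IsGeneralizedCharacter (Cz z) (H.phi θ) ∧ IsClassFunction (Cz z) (H.phi θ) ∧
    D.Supp (H.phi θ) ∧ classInner (H.phi θ) (H.phi θ) = 4 ∧ H.phi θ D.zc = 4 * ((D.Q : ℂ) + 1) := by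
  refine ⟨?_, fun x y => ?_, fun g hg => ?_, ?_, ?_⟩
  · have hp : IsGeneralizedCharacter (Cz z) H.psum := by
      have e : H.psum = (H.xi (ch D 0) + H.xi (ch D 1)) - (H.xi (ch D 2) + H.xi (ch D 3)) := by
        funext g; simp [Chi.psum, Fin.sum_univ_four, sg]; ring
      rw [e]
      exact isGenChar_sub (isGenChar_add (xi_gen H _) (xi_gen H _)) (isGenChar_add (xi_gen H _) (xi_gen H _))
    exact isGenChar_mul (a := fun g => (θ g : ℂ))
      (isGenChar_of_char (isCharacter_of_irr (isIrrCharacter_linear θ))) hp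
  · simp only [Chi.phi, psum_class H x y, map_mul, map_inv, mul_comm (θ y), mul_inv_cancel_right]
  · simp only [Chi.phi, psum_supp H g hg, mul_zero]
  · rw [← psum_norm H]
    refine congrArg _ (Finset.sum_congr rfl fun g _ => ?_)
    have hl : (θ g : ℂ) * conj (θ g : ℂ) = 1 := by
      rw [conj_hom_apply, ← Units.val_mul, ← map_mul, mul_inv_cancel, map_one, Units.val_one]
    simp only [Chi.phi, map_mul]
    linear_combination (H.psum g * conj (H.psum g)) * hl
  · simp only [Chi.phi, hθz, Units.val_one, one_mul, psum_zc H]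

include hθw in
/-- The weighted squares at `w`. -/
theorem phi_weight :
    ∑ χ : IrrCharacter (Cz z), classInner (H.phi θ) (χ : Cz z → ℂ) * (χ : Cz z → ℂ) D.w ^ 2 / (χ : Cz z → ℂ) 1 =
      8 / ((D.Q : ℂ) + 1) := by
  have hs : ∀ j, IsSignedIrr (fun g => (θ g : ℂ) * H.xi (ch D j) g) := fun j => by
    obtain ⟨χ, ε, hε, e⟩ := eta_irr H θ j
    rcases hε with rfl | rfl
    · left
      rw [show (fun g => (θ g : ℂ) * H.xi (ch D j) g) = (χ : Cz z → ℂ) from funext fun g => by rw [e g, one_mul]]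
      exact χ.2
    · right
      rw [show -(fun g => (θ g : ℂ) * H.xi (ch D j) g) = (χ : Cz z → ℂ) from funext fun g => by
        rw [Pi.neg_apply, e g]; ring]
      exact χ.2
  have hval : ∀ j, (θ D.w : ℂ) * H.xi (ch D j) D.w = (ch D j H.wU : ℂ) * (1 + sg j) := fun j => by
    have h := xi_wk H (ch D j) (k := 1) (by rw [orderOf_one]; exact odd_one)
    rw [Subgroup.coe_one, mul_one] at h
    simp only [map_one, Units.val_one] at h
    rw [h, hθw, Units.val_one, ch_z H]
    ring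
  rw [phi_eq H θ]
  simp only [classInner_sum_left, classInner_smul_left, Finset.sum_mul, Finset.sum_div]
  rw [Finset.sum_comm]
  simp only [mul_assoc, mul_div_assoc, ← Finset.mul_sum]
  simp only [← mul_div_assoc, sum_signed (hs _), hval, map_one, Units.val_one, one_mul, xi_one H]
  obtain ⟨w0, w1, -, -⟩ := ch_w H
  simp only [Fin.sum_univ_four, w0, w1]
  simp [sg]
  ring

open Classical in
/-- **The constituents of the induced function lie in the block induced from the character.** -/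
theorem phi_block (hθw : θ D.w = 1) {M : Ideal AlgInt} (hM : IsPModular 2 M) [Fintype ↥(CW D)]
    {ψθ : ↥(CW D) →* ℂˣ} (hψθ : ∀ c : ↥(CW D), ψθ c = θ (c : Cz z) * ψ c) :
    ∃ (f : Set (IrrCharacter (Cz z))) (B : Set (IrrCharacter G)),
      IsInducedBlock M (CW D) (blockOf M fun c => (ψθ c : ℂ)) f ∧
      IsInducedBlock M (Subgroup.centralizer ({z} : Set G)) f B ∧
      ∀ χ : IrrCharacter G, classInner (D.up (H.phi θ)) (χ : G → ℂ) ≠ 0 → χ ∈ B := by
  set Ψ : IrrCharacter ↥(CW D) := ⟨fun c => (ψθ c : ℂ), isIrrCharacter_linear ψθ⟩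
  have hw2 : ∃ k : ℕ, orderOf D.w = 2 ^ k := two_of_mem H.tor.spec.core H.tor.spec.wT
  have hc := isCentr_singleton D.w
  choose χ ε hε he using eta_irr H θ
  have hind : ∀ j, IsInducedBlock M (CW D) (blockOf M (Ψ : ↥(CW D) → ℂ)) (blockOf M (χ j : Cz z → ℂ)) := by
    intro j
    by_contra hnot
    refine xi_pairing H (ch D j) ?_
    have h0 := sec_pairing_zero hM hc hw2 Ψ (χ j) hnot
    have hterm : ∀ y : ↥(CW D), H.xi (ch D j) (D.w * (y : Cz z)) * conj (ψ y : ℂ) =
        ε j * ((χ j : Cz z → ℂ) (D.w * (y : Cz z)) * conj ((Ψ : ↥(CW D) → ℂ) y)) := fun y => by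
      show _ = ε j * ((χ j : Cz z → ℂ) (D.w * (y : Cz z)) * conj (ψθ y : ℂ))
      rw [← mul_assoc, ← he j, map_mul, hθw, one_mul, hψθ, Units.val_mul, map_mul]
      have hl : (θ (y : Cz z) : ℂ) * conj (θ (y : Cz z) : ℂ) = 1 := by
        rw [conj_hom_apply, ← Units.val_mul, ← map_mul, mul_inv_cancel, map_one, Units.val_one]
      linear_combination -(H.xi (ch D j) (D.w * (y : Cz z)) * conj (ψ y : ℂ)) * hl
    rw [Finset.sum_congr rfl fun y _ => hterm y, ← Finset.mul_sum, h0, mul_zero]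
  set f := blockOf M (χ 0 : Cz z → ℂ) with hf
  have hfb : ∀ j, blockOf M (χ j : Cz z → ℂ) = f := fun j => isInducedBlock_unique hM (hind j) (hind 0)
  have hz2 : ∃ k : ℕ, orderOf z = 2 ^ k := ⟨1, by rw [H.tor.spec.zord, pow_one]⟩
  have hcz := isCentr_singleton z
  obtain ⟨χ₀, hχ₀⟩ := exists_induced_centr hM hcz hz2 (χ 0)
  have hfB : IsInducedBlock M (Subgroup.centralizer ({z} : Set G)) f (blockOf M (χ₀ : G → ℂ)) :=
    isInducedBlock_of_congr _ hM (blockOf_isPBlock _) (blockOf_isPBlock _) (mem_blockOf_self hM (χ 0))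
      (mem_blockOf_self hM χ₀) hχ₀
  refine ⟨f, blockOf M (χ₀ : G → ℂ), hind 0, hfB, fun χ' hne => ?_⟩
  by_cases hB : IsInducedBlock M (Subgroup.centralizer ({z} : Set G)) f (blockOf M (χ' : G → ℂ))
  · rw [isInducedBlock_unique hM hfB hB]
    exact mem_blockOf_self hM χ'
  refine absurd ?_ hne
  have hz : ∀ j, ∑ y ∈ Finset.univ.filter (fun y : Cz z => ¬ 2 ∣ orderOf y),
      (χ' : G → ℂ) (z * (y : G)) * conj ((χ j : Cz z → ℂ) y) = 0 := fun j =>
    sec_pairing_zero hM hcz hz2 (χ j) χ' (by rwa [hfb j])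
  rw [Sys.up, frobenius_reciprocity _ _ (isClassFunction_irr χ'.2), classInner]
  refine mul_eq_zero_of_right _ ?_
  rw [← Finset.sum_filter_add_sum_filter_not Finset.univ (fun g : Cz z => p2 g = D.zc),
    Finset.sum_eq_zero (s := Finset.univ.filter fun g : Cz z => ¬ p2 g = D.zc) (fun g hg => by
      rw [Chi.phi, psum_zero H (Finset.mem_filter.1 hg).2, mul_zero, zero_mul]), add_zero]
  have hzz := (zc_ne H.tor.spec).2
  have hzS : ∃ k : ℕ, orderOf D.zc = 2 ^ k := two_of_mem H.tor.spec.core H.zU.2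
  have hmap : ∀ y : Cz z, ¬ 2 ∣ orderOf y → p2 (D.zc * y) = D.zc := fun y hy =>
    p2_mul hzS (zc_comm H.tor.spec y) hy
  have hinv : ∀ g : Cz z, p2 g = D.zc → ¬ 2 ∣ orderOf (D.zc * g) := fun g hg => by
    obtain ⟨v, hv, -, -, hvo⟩ := p2_spec g
    rw [hg] at hv
    rwa [show D.zc * g = v by rw [← hv, ← mul_assoc, hzz, one_mul]]
  have hbij : ∑ g ∈ Finset.univ.filter (fun g : Cz z => p2 g = D.zc), H.phi θ g * conj ((χ' : G → ℂ) (g : G)) =
      ∑ y ∈ Finset.univ.filter (fun y : Cz z => ¬ 2 ∣ orderOf y),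
        H.phi θ (D.zc * y) * conj ((χ' : G → ℂ) (z * (y : G))) := by
    refine Finset.sum_nbij' (fun g => D.zc * g) (fun y => D.zc * y)
      (fun g hg => Finset.mem_filter.2 ⟨Finset.mem_univ _, hinv g (Finset.mem_filter.1 hg).2⟩)
      (fun y hy => Finset.mem_filter.2 ⟨Finset.mem_univ _, hmap y (Finset.mem_filter.1 hy).2⟩)
      (fun g _ => by simp only [← mul_assoc, hzz, one_mul]) (fun y _ => by simp only [← mul_assoc, hzz, one_mul])
      fun g _ => ?_
    simp only [← mul_assoc, hzz, one_mul, Subgroup.coe_mul, H.tor.spec.zcv,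
      show z * z = 1 from H.tor.spec.zcv ▸ congrArg Subtype.val hzz]
  rw [hbij]
  have hterm : ∀ y ∈ Finset.univ.filter (fun y : Cz z => ¬ 2 ∣ orderOf y),
      H.phi θ (D.zc * y) * conj ((χ' : G → ℂ) (z * (y : G))) =
        (θ D.zc : ℂ) * ∑ j, ε j * conj ((χ' : G → ℂ) (z * (y : G)) * conj ((χ j : Cz z → ℂ) y)) := by
    intro y hy
    rw [Finset.mul_sum, Chi.phi, Chi.psum, Finset.mul_sum, Finset.sum_mul]
    refine Finset.sum_congr rfl fun j _ => ?_
    rw [xi_zc_mul H _ (Finset.mem_filter.1 hy).2, ch_z H, map_mul θ, Units.val_mul, map_mul (starRingEnd ℂ),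
      Complex.conj_conj]
    linear_combination (θ D.zc : ℂ) * (θ y : ℂ) * H.xi (ch D j) y * conj ((χ' : G → ℂ) (z * (y : G))) * sg_sq j +
      (θ D.zc : ℂ) * conj ((χ' : G → ℂ) (z * (y : G))) * he j y
  rw [Finset.sum_congr rfl hterm, ← Finset.mul_sum, Finset.sum_comm]
  refine mul_eq_zero_of_right _ (Finset.sum_eq_zero fun j _ => ?_)
  rw [← Finset.mul_sum, ← map_sum, hz j, map_zero, mul_zero]

end CfsgLib.RankTwoModel.L4.Moved
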