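import Cfsg.Agent.Lib.RankTwoModel.L4.Moved.Setup

/-!
The projection of `HW` and the action of `n true` on it (blueprint/RankTwo_L45.md, D2).

* `nCW`, `nHW`: conjugation by `n true`; `rho_nHW`: it acts on the four group as `n true`;
* `rho_eq_one_iff`: the kernel of the projection consists of the elements of odd order;
* `sum_HW`: summation over `HW`;
* `R_Z`, `R_out`: the functions of the torus of the four group on `HW`.
-/

set_option autoImplicit false
set_option linter.unusedSectionVars false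
set_option linter.style.haveILetI false

namespace CfsgLib.RankTwoModel.L4.Moved

open Cfsg CfsgLib.BrauerOrder CfsgLib.CharTheory

universe u v

variable {G : Type u} [Group G] [Fintype G] {z : G} [Fintype (Cz z)] {Ω : Type v} [MulAction (Cz z) Ω]
  {D : Sys G z} {i : ℕ} (hT : Tor D Ω i)
include hT

theorem U_sq {t : Cz z} (ht : t ∈ D.core.T true) : t * t = 1 := by
  obtain ⟨hz1, hz2⟩ := zc_ne hT.spec
  rcases U_cases hT ht with e | e | e | e <;> rw [e]
  · exact one_mul 1
  · exact hz2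
  · exact hT.spec.wsq
  · rw [mul_assoc, ← mul_assoc D.w, zc_comm hT.spec D.w, mul_assoc D.zc D.w, hT.spec.wsq, mul_one, hz2]

/-- `n true` acts on the four group as an involution. -/
theorem n_inv_conj {t : Cz z} (ht : t ∈ D.core.T true) :
    (D.core.n true)⁻¹ * t * D.core.n true = D.core.n true * t * (D.core.n true)⁻¹ := by
  have h := hT.spec.core.tcomm true _ (hT.spec.core.nsq true) t ht
  calc (D.core.n true)⁻¹ * t * D.core.n true
      = (D.core.n true)⁻¹ * (t * (D.core.n true * D.core.n true)) * (D.core.n true)⁻¹ := by group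
    _ = (D.core.n true)⁻¹ * (D.core.n true * D.core.n true * t) * (D.core.n true)⁻¹ := by rw [h]
    _ = _ := by group

/-- Conjugation by `n true` on `CW`. -/
noncomputable def nCW : ↥(CW D) →* ↥(CW D) :=
  MonoidHom.mk' (fun c => ⟨(D.core.n true)⁻¹ * c * D.core.n true, (n_conj_CW hT c.2).2⟩)
    fun a b => Subtype.ext (by simp [mul_assoc])

theorem nCW_coe (c : ↥(CW D)) : ((nCW hT c : ↥(CW D)) : Cz z) = (D.core.n true)⁻¹ * c * D.core.n true := rfl

/-- Conjugation by `n true` on `HW`. -/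
noncomputable def nHW : ↥(HW D) →* ↥(HW D) :=
  MonoidHom.mk' (fun h => ⟨(D.core.n true)⁻¹ * h * D.core.n true, (n_conj_HW hT h.2).2⟩)
    fun a b => Subtype.ext (by simp [mul_assoc])

theorem nHW_coe (h : ↥(HW D)) : ((nHW hT h : ↥(HW D)) : Cz z) = (D.core.n true)⁻¹ * h * D.core.n true := rfl

theorem piU_nCW (c : ↥(CW D)) : ((piU hT (nCW hT c) : ↥(D.core.T true)) : Cz z) =
    D.core.n true * (piU hT c : Cz z) * (D.core.n true)⁻¹ := by
  obtain ⟨k, hk, hck, -⟩ := exists_decomp hT c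
  set t := piU hT c
  have h1 : piU hT (nCW hT k) = 1 :=
    (piU_odd_iff hT _).2 (hk.of_dvd_nat (orderOf_map_dvd (nCW hT) k))
  have h2 : nCW hT (uCW hT t) = uCW hT ⟨D.core.n true * t * (D.core.n true)⁻¹, hT.spec.core.nnorm true t t.2⟩ :=
    Subtype.ext (n_inv_conj hT t.2)
  rw [hck, map_mul, map_mul, h1, mul_one, h2, piU_u]

theorem exists_rep (h : ↥(HW D)) : ∃ c : ↥(CW D), (c : Cz z)⁻¹ * (h : Cz z) ∈ D.core.O := by
  obtain ⟨c, hc, o, ho, e⟩ := (mem_HW hT).1 h.2
  exact ⟨⟨c, hc⟩, by show c⁻¹ * _ ∈ _; rw [← e, inv_mul_cancel_left]; exact ho⟩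

theorem rep_nHW {c : ↥(CW D)} {h : ↥(HW D)} (hc : (c : Cz z)⁻¹ * (h : Cz z) ∈ D.core.O) :
    ((nCW hT c : ↥(CW D)) : Cz z)⁻¹ * ((nHW hT h : ↥(HW D)) : Cz z) ∈ D.core.O := by
  haveI := hT.spec.core.onorm
  have := hT.spec.core.onorm.conj_mem _ hc (D.core.n true)⁻¹
  rw [nCW_coe, nHW_coe]
  convert this using 1
  group

theorem rho_nHW (h : ↥(HW D)) : ((rho hT (nHW hT h) : ↥(D.core.T true)) : Cz z) =
    D.core.n true * (rho hT h : Cz z) * (D.core.n true)⁻¹ := by
  obtain ⟨c, hc⟩ := exists_rep hT h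
  rw [rho_of_mem hT (rep_nHW hT hc), rho_of_mem hT hc, piU_nCW]

/-- The inclusion of the four group in `HW`. -/
noncomputable def uHW : ↥(D.core.T true) →* ↥(HW D) :=
  Subgroup.inclusion ((U_le_CW hT).trans (CW_le_HW hT))

theorem uHW_coe (t : ↥(D.core.T true)) : ((uHW hT t : ↥(HW D)) : Cz z) = t := rfl

theorem rho_u (t : ↥(D.core.T true)) : rho hT (uHW hT t) = t := by
  rw [rho_of_mem hT (c := uCW hT t) (by show (t : Cz z)⁻¹ * (t : Cz z) ∈ _; rw [inv_mul_cancel]; exact one_mem _),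
    piU_u]

theorem T_two_odd {t : ↥(D.core.T true)} (h : Odd (orderOf t)) : t = 1 := by
  obtain ⟨k, hk⟩ := two_of_mem hT.spec.core t.2
  rw [← Subgroup.orderOf_coe, hk] at h
  rcases Nat.eq_zero_or_pos k with rfl | hk0
  · rw [pow_zero, orderOf_eq_one_iff] at hk
    exact Subtype.ext hk
  · exact absurd (dvd_pow_self 2 hk0.ne') (fun hd => (Nat.not_even_iff_odd.2 h) (even_iff_two_dvd.2 hd))

/-- The kernel of the projection is the set of elements of odd order. -/
theorem rho_eq_one_iff (h : ↥(HW D)) : rho hT h = 1 ↔ Odd (orderOf h) := by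
  refine ⟨fun h1 => ?_, fun ho => T_two_odd hT (ho.of_dvd_nat (orderOf_map_dvd (rho hT) h))⟩
  haveI := hT.spec.core.onorm
  obtain ⟨c, hc⟩ := exists_rep hT h
  rw [rho_of_mem hT hc, piU_odd_iff] at h1
  have hq : ((c : Cz z) : Cz z ⧸ D.core.O) = ((h : Cz z) : Cz z ⧸ D.core.O) :=
    QuotientGroup.eq.2 hc
  have hm : (h : Cz z) ^ orderOf c ∈ D.core.O := by
    rw [← QuotientGroup.eq_one_iff, QuotientGroup.mk_pow, ← hq, ← QuotientGroup.mk_pow,
      ← Subgroup.coe_pow, pow_orderOf_eq_one]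
    exact QuotientGroup.mk_one _
  have h2 : (h : Cz z) ^ (orderOf c * Nat.card D.core.O) = 1 := by
    rw [pow_mul]
    have := congrArg Subtype.val (pow_card_eq_one' (x := (⟨_, hm⟩ : D.core.O)))
    rwa [Subgroup.coe_pow, Subgroup.coe_one] at this
  rw [← Subgroup.orderOf_coe]
  exact (h1.mul hT.spec.core.oodd).of_dvd_nat (orderOf_dvd_of_pow_eq_one h2)

/-- Summation over `HW`: the four group times the kernel of the projection. -/
theorem sum_HW [Fintype ↥(HW D)] [Fintype ↥(D.core.T true)] [Fintype ↥(rho hT).ker] (F : ↥(HW D) → ℂ) :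
    ∑ h, F h = ∑ t : ↥(D.core.T true), ∑ m : ↥(rho hT).ker, F (uHW hT t * m) := by
  rw [← Fintype.sum_prod_type']
  refine (Fintype.sum_bijective (fun x : ↥(D.core.T true) × ↥(rho hT).ker => uHW hT x.1 * (x.2 : ↥(HW D))) ?_ _ _
    fun x => rfl).symm
  refine ⟨fun a b e => ?_, fun h => ⟨(rho hT h, ⟨(uHW hT (rho hT h))⁻¹ * h, ?_⟩), ?_⟩⟩
  · have e1 : a.1 = b.1 := by
      have := congrArg (rho hT) e
      simp only [map_mul, rho_u, MonoidHom.mem_ker.1 a.2.2, MonoidHom.mem_ker.1 b.2.2, mul_one] at this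
      exact this
    simp only [e1, mul_right_inj] at e
    exact Prod.ext e1 (Subtype.ext e)
  · rw [MonoidHom.mem_ker, map_mul, map_inv, rho_u, inv_mul_cancel]
  · exact mul_inv_cancel_left _ _

theorem rho_u_mul (t : ↥(D.core.T true)) (m : ↥(rho hT).ker) : rho hT (uHW hT t * m) = t := by
  rw [map_mul, rho_u, MonoidHom.mem_ker.1 m.2, mul_one]

/-- The functions of the torus on `HW` over the centre. -/
theorem R_Z (μ : ↥(D.core.T true) →* ℂˣ) (t : ↥(D.core.T true)) (m : ↥(rho hT).ker)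
    (ht : (t : Cz z) ∈ D.core.Z) :
    D.core.R Ω true μ ((uHW hT t * m : ↥(HW D)) : Cz z) =
      (μ t : ℂ) * (1 + (D.core.σ true : ℂ) * St Ω ((m : ↥(HW D)) : Cz z)) := by
  set m' : Cz z := ((m : ↥(HW D)) : Cz z)
  have hodd : ¬ 2 ∣ orderOf m' := by
    rw [Subgroup.orderOf_coe]
    exact fun h => (Nat.not_even_iff_odd.2 ((rho_eq_one_iff hT _).1 m.2)) (even_iff_two_dvd.2 h)
  have hc : Commute m' (t : Cz z) := by
    rcases Z_cases hT ht with e | e <;> rw [e]
    exacts [Commute.one_right _, zc_comm hT.spec _]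
  have hp : p2 ((t : Cz z) * m') = (t : Cz z) := p2_mul (two_of_mem hT.spec.core t.2) hc hodd
  have hs : St Ω ((t : Cz z) * m') = St Ω m' := by
    rw [St, St]
    congr 2
    refine Nat.card_congr (Equiv.subtypeEquivRight fun a => ?_)
    show ((t : Cz z) * m') • a = a ↔ m' • a = a
    rw [mul_smul, hT.spec.core.ztriv _ ht]
  show D.core.R Ω true μ ((t : Cz z) * m') = _
  rw [R_ctype hT.spec.core true μ ht (by rw [hp, mul_inv_cancel]; exact one_mem _), tv_mem μ t.2, hs]

theorem p2_out (h : ↥(HW D)) : IsConj (p2 (h : Cz z)) (rho hT h : Cz z) := by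
  haveI := hT.spec.core.onorm
  obtain ⟨v, hv, hcv, ⟨k, hk⟩, hvo⟩ := p2_spec (h : Cz z)
  obtain ⟨j, hj⟩ := pow_p2 hT.spec (h : Cz z)
  set t := rho hT h
  set q : ↥(HW D) := h ^ j with hqdef
  have hq : (q : Cz z) = p2 (h : Cz z) := by rw [hqdef, Subgroup.coe_pow, hj]
  have hρ : rho hT q = t := by
    have hqv : h = q * (q⁻¹ * h) := (mul_inv_cancel_left _ _).symm
    have h1 : rho hT (q⁻¹ * h) = 1 := (rho_eq_one_iff hT _).2 (by
      rw [← Subgroup.orderOf_coe, Subgroup.coe_mul, Subgroup.coe_inv, hq]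
      rw [show (p2 (h : Cz z))⁻¹ * (h : Cz z) = v from inv_mul_eq_iff_eq_mul.2 hv.symm]
      exact Nat.odd_iff.2 (by omega))
    have := congrArg (rho hT) hqv
    rwa [map_mul, h1, mul_one, eq_comm] at this
  have ht2 : (t : Cz z) * t = 1 := U_sq hT t.2
  have hq2 : (q : Cz z) * q = 1 := by
    have h1 : Odd (orderOf (q * q)) := (rho_eq_one_iff hT _).1 (by rw [map_mul, hρ]; exact Subtype.ext ht2)
    have h2 : orderOf (q * q) ∣ 2 ^ k := by
      rw [← hk, ← hq, Subgroup.orderOf_coe, ← sq]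
      exact orderOf_pow_dvd 2
    obtain ⟨a, -, ha⟩ := (Nat.dvd_prime_pow Nat.prime_two).1 h2
    rw [ha] at h1
    rcases Nat.eq_zero_or_pos a with rfl | ha0
    · rw [pow_zero, orderOf_eq_one_iff] at ha
      exact congrArg Subtype.val ha
    · exact absurd (dvd_pow_self 2 ha0.ne') (fun hd => (Nat.not_even_iff_odd.2 h1) (even_iff_two_dvd.2 hd))
  have hqt : (q : Cz z) * (t : Cz z)⁻¹ ∈ D.core.O := by
    obtain ⟨c, hc⟩ := exists_rep hT q
    have hpc : piU hT c = t := by rw [← rho_of_mem hT hc, hρ]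
    obtain ⟨s, hs, hcs, hcomm⟩ := exists_decomp hT c
    rw [hpc] at hcs hcomm
    set π := QuotientGroup.mk' D.core.O
    have e1 : π (q : Cz z) = π (t : Cz z) * π (s : Cz z) := by
      rw [← map_mul]
      refine (QuotientGroup.eq.2 ?_).symm
      rw [hcs] at hc
      exact hc
    have hcomm' : Commute (π (t : Cz z)) (π (s : Cz z)) := (hcomm.map (CW D).subtype).map π
    have e2 : π (s : Cz z) * π (s : Cz z) = 1 := by
      calc π (s : Cz z) * π (s : Cz z) = π (q : Cz z) * π (q : Cz z) := by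
            rw [e1, hcomm'.symm.mul_mul_mul_comm, ← map_mul π (t : Cz z) (t : Cz z), ht2, map_one, one_mul]
        _ = 1 := by rw [← map_mul, hq2, map_one]
    have e3 : π (s : Cz z) = 1 := by
      obtain ⟨a, ha⟩ := hs
      have : π (s : Cz z) ^ orderOf s = 1 := by
        rw [← map_pow, ← Subgroup.coe_pow, pow_orderOf_eq_one]
        exact map_one π
      rwa [ha, pow_succ, pow_mul, sq, e2, one_pow, one_mul] at this
    rw [← QuotientGroup.eq_one_iff, QuotientGroup.mk_mul, QuotientGroup.mk_inv]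
    show π (q : Cz z) * (π (t : Cz z))⁻¹ = 1
    rw [e1, e3, mul_one, mul_inv_cancel]
  obtain ⟨o, -, ho⟩ := conj_of_coset hT ht2 hq2 hqt
  rw [← hq]
  exact (isConj_iff.2 ⟨o, ho⟩).symm

/-- The functions of the torus on `HW` outside the centre. -/
theorem R_out (μ : ↥(D.core.T true) →* ℂˣ) (h : ↥(HW D)) (ht : (rho hT h : Cz z) ∉ D.core.Z) :
    D.core.R Ω true μ (h : Cz z) =
      (μ (rho hT h) : ℂ) + (D.core.conjChar (hT.spec.core.nnorm true) μ (rho hT h) : ℂ) := by
  rw [R_ttype hT.spec.core true μ (rho hT h).2 ht (p2_out hT h), ← tv_conjChar hT.spec.core μ (rho hT h).2,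
    tv_mem μ (rho hT h).2, tv_mem _ (rho hT h).2]

end CfsgLib.RankTwoModel.L4.Moved
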