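import Cfsg.Agent.Lib.BrauerOrder.Formula

/-!
The centraliser `CW` of the second involution in `C`, its product `HW` with the core, and the projection of both
onto the four group (blueprint/RankTwo_L45.md, D2).

* `Tor`: the local hypotheses; `piU`, `ext`, `rho`: the projection, extension to `HW`;
* `mem_HW_cases`: an element moving a relevant element of `HW` into `HW` normalises it.
-/

set_option autoImplicit false
set_option linter.unusedSectionVars false
set_option linter.style.haveILetI false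

namespace CfsgLib.RankTwoModel.L4.Moved

open Cfsg CfsgLib.BrauerOrder CfsgLib.CharTheory

universe u v w'

variable {G : Type u} [Group G] [Fintype G] {z : G} [Fintype (Cz z)] {Ω : Type v} [MulAction (Cz z) Ω]

/-- The centraliser of the second involution in `C`. -/
abbrev CW (D : Sys G z) : Subgroup (Cz z) := Subgroup.centralizer ({D.w} : Set (Cz z))

/-- Its product with the core. -/
abbrev HW (D : Sys G z) : Subgroup (Cz z) := CW D ⊔ D.core.O

/-- The local hypotheses of the moved character. -/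
structure Tor (D : Sys G z) (Ω : Type v) [MulAction (Cz z) Ω] (i : ℕ) : Prop where
  spec : D.Spec Ω
  h2 : Nat.card D.core.Z = 2
  hidx : Nat.card (Cz z) =
    Nat.card (Subgroup.centralizer ({(D.w : G), z} : Set G)) * i * (D.Q * (D.Q + 1)).natAbs
  hi : Nat.card D.core.O = Nat.card ↥(D.core.O ⊓ CW D) * i
  hcw : Nat.card (Subgroup.centralizer ({(D.w : G), z} : Set G)) =
    2 * (D.Q - 1).natAbs * Nat.card ↥(D.core.O ⊓ CW D)
  ti : ∀ g y : Cz z, y * D.w = D.w * y → Odd (orderOf y) → y ∉ D.core.O →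
    (g * y * g⁻¹) * D.w * (g * y * g⁻¹)⁻¹ * D.w⁻¹ ∈ D.core.O →
    g * D.w * g⁻¹ * D.w⁻¹ ∈ D.core.O ∨ g * D.w * g⁻¹ * (D.zc * D.w)⁻¹ ∈ D.core.O

variable {D : Sys G z} {i : ℕ} (hT : Tor D Ω i)
include hT

theorem mem_CW {x : Cz z} : x ∈ CW D ↔ x * D.w = D.w * x := Subgroup.mem_centralizer_singleton_iff

theorem Z_cases {u : Cz z} (hu : u ∈ D.core.Z) : u = 1 ∨ u = D.zc := by
  refine hT.spec.zonly u hu ?_
  have h := congrArg Subtype.val (pow_card_eq_one' (x := (⟨u, hu⟩ : D.core.Z)))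
  rw [hT.h2] at h
  simpa [sq] using h

/-- The elements of the four group. -/
theorem U_cases {t : Cz z} (ht : t ∈ D.core.T true) : t = 1 ∨ t = D.zc ∨ t = D.w ∨ t = D.zc * D.w := by
  classical
  set s : ↥(D.core.T true) → Prop := fun t => (t : Cz z) = 1 ∨ (t : Cz z) = D.zc ∨ (t : Cz z) = D.w ∨
    (t : Cz z) = D.zc * D.w
  obtain ⟨hz1, hz2⟩ := zc_ne hT.spec
  have hzU : D.zc ∈ D.core.T true := hT.spec.core.zle true hT.spec.zcZ
  have hwz : D.w ∉ ({1, D.zc} : Set (Cz z)) := by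
    rintro (e | e) <;> exact hT.spec.wZ (e ▸ (by first | exact one_mem _ | exact hT.spec.zcZ))
  have hne1 : D.w ≠ 1 := fun e => hwz (Or.inl e)
  have hne2 : D.w ≠ D.zc := fun e => hwz (Or.inr e)
  have h4 : Nat.card ↥(D.core.T true) = 4 := by rw [hT.spec.cardU, hT.h2]; norm_num
  let a : ↥(D.core.T true) := ⟨D.zc, hzU⟩
  let b : ↥(D.core.T true) := ⟨D.w, hT.spec.wT⟩
  have hset : ({1, a, b, a * b} : Finset ↥(D.core.T true)).card = 4 := by
    rw [Finset.card_insert_of_notMem, Finset.card_insert_of_notMem, Finset.card_insert_of_notMem,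
      Finset.card_singleton]
    · simp only [Finset.mem_singleton]
      intro e
      exact hz1 (mul_eq_right.1 (congrArg Subtype.val e).symm)
    · simp only [Finset.mem_insert, Finset.mem_singleton, not_or]
      refine ⟨fun e => hne2 (congrArg Subtype.val e).symm, fun e => hne1 ?_⟩
      exact mul_eq_left.1 (congrArg Subtype.val e).symm
    · simp only [Finset.mem_insert, Finset.mem_singleton, not_or]
      refine ⟨fun e => hz1 (congrArg Subtype.val e).symm, fun e => hne1 (congrArg Subtype.val e).symm, fun e => hne2 ?_⟩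
      have e' : D.zc * D.w = 1 := (congrArg Subtype.val e).symm
      calc D.w = D.zc * D.zc * D.w := by rw [hz2, one_mul]
        _ = D.zc := by rw [mul_assoc, e', mul_one]
  have hall : ({1, a, b, a * b} : Finset ↥(D.core.T true)) = Finset.univ :=
    Finset.eq_univ_of_card _ (by rw [hset, ← Nat.card_eq_fintype_card, h4])
  have := Finset.mem_univ (⟨t, ht⟩ : ↥(D.core.T true))
  rw [← hall] at this
  simp only [Finset.mem_insert, Finset.mem_singleton] at this
  rcases this with e | e | e | e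
  exacts [Or.inl (congrArg Subtype.val e), Or.inr (Or.inl (congrArg Subtype.val e)),
    Or.inr (Or.inr (Or.inl (congrArg Subtype.val e))), Or.inr (Or.inr (Or.inr (congrArg Subtype.val e)))]

theorem U_le_CW : D.core.T true ≤ CW D := fun t ht =>
  (mem_CW hT).2 (hT.spec.core.tcomm true t ht D.w hT.spec.wT)

theorem zc_mem_CW : D.zc ∈ CW D := (mem_CW hT).2 (zc_comm hT.spec D.w).symm

/-- The inclusion of the four group. -/
noncomputable def uCW : ↥(D.core.T true) →* ↥(CW D) := Subgroup.inclusion (U_le_CW hT)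

theorem exists_piU : ∃ π : ↥(CW D) →* ↥(D.core.T true), (∀ t, π (uCW hT t) = t) ∧
    ∀ c : ↥(CW D), π c = 1 → Odd (orderOf c) := by
  haveI : Fact (Nat.Prime 2) := ⟨Nat.prime_two⟩
  obtain ⟨K, hK, hodd, hidx⟩ := hT.spec.core.cent true D.w hT.spec.wT hT.spec.wZ
  haveI := hK
  set f : ↥(D.core.T true) →* ↥(CW D) ⧸ K := (QuotientGroup.mk' K).comp (uCW hT)
  have hinj : Function.Injective f := by
    refine (injective_iff_map_eq_one f).2 fun t ht => ?_
    have hm : uCW hT t ∈ K := (QuotientGroup.eq_one_iff _).1 ht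
    obtain ⟨k, hk⟩ := two_of_mem hT.spec.core t.2
    have h1 : orderOf (uCW hT t) ∣ Nat.card K := Subgroup.orderOf_dvd_natCard K hm
    have h2 : orderOf (uCW hT t) = 2 ^ k := by
      rw [← Subgroup.orderOf_coe]
      exact hk
    rcases Nat.eq_zero_or_pos k with rfl | hk0
    · rw [pow_zero, orderOf_eq_one_iff] at h2
      exact Subtype.ext (congrArg Subtype.val h2 : _)
    · exact absurd ((dvd_pow_self 2 hk0.ne').trans (h2 ▸ h1)) hodd
  have hbij : Function.Bijective f :=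
    (Nat.bijective_iff_injective_and_card f).2 ⟨hinj, hidx.symm⟩
  set e := MulEquiv.ofBijective f hbij
  refine ⟨e.symm.toMonoidHom.comp (QuotientGroup.mk' K), fun t => e.symm_apply_apply t, fun c hc => ?_⟩
  have hm : c ∈ K := (QuotientGroup.eq_one_iff c).1 (by
    have := congrArg e hc
    rwa [map_one, MonoidHom.comp_apply, MulEquiv.coe_toMonoidHom, e.apply_symm_apply] at this)
  exact (Nat.odd_iff.2 (by omega : Nat.card K % 2 = 1)).of_dvd_nat (Subgroup.orderOf_dvd_natCard K hm)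

/-- The projection of `CW` onto the four group. -/
noncomputable def piU : ↥(CW D) →* ↥(D.core.T true) := (exists_piU hT).choose

theorem piU_u (t : ↥(D.core.T true)) : piU hT (uCW hT t) = t := (exists_piU hT).choose_spec.1 t

theorem piU_odd_iff (c : ↥(CW D)) : piU hT c = 1 ↔ Odd (orderOf c) := by
  refine ⟨(exists_piU hT).choose_spec.2 c, fun h => ?_⟩
  obtain ⟨k, hk⟩ := two_of_mem hT.spec.core (piU hT c).2
  have hd : orderOf (piU hT c) ∣ orderOf c := orderOf_map_dvd _ c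
  rw [← Subgroup.orderOf_coe, hk] at hd
  rcases Nat.eq_zero_or_pos k with rfl | hk0
  · rw [pow_zero, orderOf_eq_one_iff] at hk
    exact Subtype.ext hk
  · exact absurd ((dvd_pow_self 2 hk0.ne').trans hd) (fun hd2 => (Nat.not_even_iff_odd.2 h) (even_iff_two_dvd.2 hd2))

/-- An element of `CW` is an element of the four group times an element of odd order. -/
theorem exists_decomp (c : ↥(CW D)) : ∃ k : ↥(CW D), Odd (orderOf k) ∧ c = uCW hT (piU hT c) * k ∧
    Commute (uCW hT (piU hT c)) k := by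
  set t := uCW hT (piU hT c)
  refine ⟨t⁻¹ * c, (piU_odd_iff hT _).1 ?_, (mul_inv_cancel_left t c).symm, ?_⟩
  · rw [map_mul, map_inv, piU_u, inv_mul_cancel]
  · have hc : Commute t c := by
      refine Subtype.ext ?_
      show (piU hT c : Cz z) * (c : Cz z) = (c : Cz z) * (piU hT c : Cz z)
      have hcw : (c : Cz z) * D.w = D.w * (c : Cz z) := (mem_CW hT).1 c.2
      rcases U_cases hT (piU hT c).2 with e | e | e | e <;> rw [e]
      · rw [one_mul, mul_one]
      · exact (zc_comm hT.spec _).symm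
      · exact hcw.symm
      · rw [mul_assoc, ← hcw, ← mul_assoc, ← zc_comm hT.spec, mul_assoc]
    exact ((Commute.refl t).inv_right).mul_right hc

theorem O_le_HW : D.core.O ≤ HW D := le_sup_right

theorem CW_le_HW : CW D ≤ HW D := le_sup_left

theorem mem_HW {h : Cz z} : h ∈ HW D ↔ ∃ c ∈ CW D, ∃ o ∈ D.core.O, c * o = h := by
  haveI := hT.spec.core.onorm
  rw [← SetLike.mem_coe, Subgroup.mul_normal]
  exact Set.mem_mul

/-- An involution of the coset of an involution of the four group is conjugate to it by the core. -/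
theorem conj_of_coset {t q : Cz z} (ht : t * t = 1) (hq : q * q = 1) (h : q * t⁻¹ ∈ D.core.O) :
    ∃ o ∈ D.core.O, o * t * o⁻¹ = q := by
  haveI := hT.spec.core.onorm
  have ht' : t⁻¹ = t := inv_eq_of_mul_eq_one_right ht
  have hq' : q⁻¹ = q := inv_eq_of_mul_eq_one_right hq
  set a := q * t with ha
  have haO : a ∈ D.core.O := by rwa [ht'] at h
  obtain ⟨j, hj⟩ := hT.spec.core.oodd.of_dvd_nat (Subgroup.orderOf_dvd_natCard _ haO)
  have hta : t * a * t⁻¹ = a⁻¹ := by
    rw [ha, mul_inv_rev, ht', hq', mul_assoc, mul_assoc, ht, mul_one]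
  refine ⟨a ^ (j + 1), pow_mem haO _, ?_⟩
  have e1 : t * (a ^ (j + 1))⁻¹ = a ^ (j + 1) * t := by
    rw [← inv_pow, ← hta, conj_pow, ← mul_assoc, ← mul_assoc, ht, one_mul, ht']
  calc a ^ (j + 1) * t * (a ^ (j + 1))⁻¹ = a ^ (j + 1) * (t * (a ^ (j + 1))⁻¹) := mul_assoc _ _ _
    _ = a ^ orderOf a * a * t := by
        rw [e1, ← mul_assoc, ← pow_add, ← pow_succ, show orderOf a + 1 = j + 1 + (j + 1) by omega]
    _ = q := by rw [pow_orderOf_eq_one, one_mul, ha, mul_assoc, ht, mul_one]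

theorem w_inv : D.w⁻¹ = D.w := inv_eq_of_mul_eq_one_right hT.spec.wsq

theorem mem_HW_of_fix {h : Cz z} (hh : h * D.w * h⁻¹ * D.w⁻¹ ∈ D.core.O) : h ∈ HW D := by
  haveI := hT.spec.core.onorm
  obtain ⟨o, ho, he⟩ := conj_of_coset hT hT.spec.wsq (q := h * D.w * h⁻¹)
    (by rw [show h * D.w * h⁻¹ * (h * D.w * h⁻¹) = h * (D.w * D.w) * h⁻¹ by group, hT.spec.wsq, mul_one,
      mul_inv_cancel]) hh
  have hc : o⁻¹ * h ∈ CW D := (mem_CW hT).2 (by
    calc o⁻¹ * h * D.w = o⁻¹ * (h * D.w * h⁻¹) * h := by group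
      _ = D.w * (o⁻¹ * h) := by rw [← he]; group)
  rw [show h = o * (o⁻¹ * h) by group]
  exact mul_mem (O_le_HW hT ho) (CW_le_HW hT hc)

theorem HW_fix {h : Cz z} (hh : h ∈ HW D) : h * D.w * h⁻¹ * D.w⁻¹ ∈ D.core.O := by
  haveI := hT.spec.core.onorm
  obtain ⟨c, hc, o, ho, rfl⟩ := (mem_HW hT).1 hh
  have hcw : c * D.w * c⁻¹ = D.w := by rw [(mem_CW hT).1 hc, mul_inv_cancel_right]
  have hid : c * o * D.w * (c * o)⁻¹ * D.w⁻¹ = (c * (o * (D.w * o⁻¹ * D.w⁻¹)) * c⁻¹) *
      (c * D.w * c⁻¹ * D.w⁻¹) := by group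
  rw [hid, hcw, mul_inv_cancel, mul_one]
  exact hT.spec.core.onorm.conj_mem _ (mul_mem ho (hT.spec.core.onorm.conj_mem _ (inv_mem ho) _)) _

theorem n_w : D.core.n true * D.w * (D.core.n true)⁻¹ = D.zc * D.w := hT.spec.nw

theorem n_zw : D.core.n true * (D.zc * D.w) * (D.core.n true)⁻¹ = D.w := by
  have h1 : D.core.n true * D.zc * (D.core.n true)⁻¹ = D.zc := by
    rw [zc_comm hT.spec, mul_inv_cancel_right]
  rw [show D.core.n true * (D.zc * D.w) * (D.core.n true)⁻¹ =
    (D.core.n true * D.zc * (D.core.n true)⁻¹) * (D.core.n true * D.w * (D.core.n true)⁻¹) by group, h1,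
    n_w hT, ← mul_assoc, (zc_ne hT.spec).2, one_mul]

theorem n_inv_w : (D.core.n true)⁻¹ * D.w * D.core.n true = D.zc * D.w := by
  rw [mul_assoc, inv_mul_eq_iff_eq_mul]
  have := n_zw hT
  rw [mul_inv_eq_iff_eq_mul] at this
  exact this.symm

/-- The conjugation by `n` preserves `CW`. -/
theorem n_conj_CW {c : Cz z} (hc : c ∈ CW D) :
    D.core.n true * c * (D.core.n true)⁻¹ ∈ CW D ∧ (D.core.n true)⁻¹ * c * D.core.n true ∈ CW D := by
  have hc' : Commute c D.w := (mem_CW hT).1 hc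
  have hz : Commute c D.zc := zc_comm hT.spec c
  have hzw : Commute c (D.zc * D.w) := hz.mul_right hc'
  constructor
  · refine (mem_CW hT).2 ?_
    have := (Commute.conj_iff (D.core.n true)).2 hzw
    rwa [n_zw hT] at this
  · refine (mem_CW hT).2 ?_
    have := (Commute.conj_iff (D.core.n true)⁻¹).2 hzw
    rw [inv_inv] at this
    have e : (D.core.n true)⁻¹ * (D.zc * D.w) * D.core.n true = D.w := by
      rw [mul_assoc, inv_mul_eq_iff_eq_mul]
      have := n_w hT
      rw [mul_inv_eq_iff_eq_mul] at this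
      exact this.symm
    rwa [e] at this

theorem n_conj_HW {h : Cz z} (hh : h ∈ HW D) :
    D.core.n true * h * (D.core.n true)⁻¹ ∈ HW D ∧ (D.core.n true)⁻¹ * h * D.core.n true ∈ HW D := by
  obtain ⟨c, hc, o, ho, rfl⟩ := (mem_HW hT).1 hh
  obtain ⟨h1, h2⟩ := n_conj_CW hT hc
  have o1 := hT.spec.core.onorm.conj_mem o ho (D.core.n true)
  have o2 := hT.spec.core.onorm.conj_mem o ho (D.core.n true)⁻¹
  rw [inv_inv] at o2
  constructor
  · rw [show D.core.n true * (c * o) * (D.core.n true)⁻¹ =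
      D.core.n true * c * (D.core.n true)⁻¹ * (D.core.n true * o * (D.core.n true)⁻¹) by group]
    exact mul_mem (CW_le_HW hT h1) (O_le_HW hT o1)
  · rw [show (D.core.n true)⁻¹ * (c * o) * D.core.n true =
      (D.core.n true)⁻¹ * c * D.core.n true * ((D.core.n true)⁻¹ * o * D.core.n true) by group]
    exact mul_mem (CW_le_HW hT h2) (O_le_HW hT o2)

theorem n_not_mem_HW : D.core.n true ∉ HW D := fun h => by
  have h1 := HW_fix hT h
  rw [n_w hT, mul_inv_cancel_right] at h1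
  exact (zc_ne hT.spec).1 (odd_S_trivial hT.spec.core h1 (two_of_mem hT.spec.core (hT.spec.core.zle true hT.spec.zcZ)))

section Ext

variable {A : Type w'} [Group A] {f : ↥(CW D) →* A} (hf : ∀ c : ↥(CW D), (c : Cz z) ∈ D.core.O → f c = 1)
include hf

theorem exists_ext : ∃ F : ↥(HW D) →* A, ∀ (c : ↥(CW D)) (h : ↥(HW D)),
    (c : Cz z)⁻¹ * (h : Cz z) ∈ D.core.O → F h = f c := by
  haveI := hT.spec.core.onorm
  have hex : ∀ h : ↥(HW D), ∃ c : ↥(CW D), (c : Cz z)⁻¹ * (h : Cz z) ∈ D.core.O := fun h => by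
    obtain ⟨c, hc, o, ho, e⟩ := (mem_HW hT).1 h.2
    exact ⟨⟨c, hc⟩, by show c⁻¹ * _ ∈ _; rw [← e, inv_mul_cancel_left]; exact ho⟩
  choose c hc using hex
  have huniq : ∀ (c' : ↥(CW D)) (h : ↥(HW D)), (c' : Cz z)⁻¹ * (h : Cz z) ∈ D.core.O → f (c h) = f c' := by
    intro c' h hc'
    refine (inv_mul_eq_one.1 ?_).symm
    rw [← map_inv, ← map_mul]
    refine hf _ ?_
    show (c' : Cz z)⁻¹ * (c h : Cz z) ∈ D.core.O
    rw [show (c' : Cz z)⁻¹ * (c h : Cz z) = ((c' : Cz z)⁻¹ * h) * ((c h : Cz z)⁻¹ * h)⁻¹ by group]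
    exact mul_mem hc' (inv_mem (hc h))
  refine ⟨MonoidHom.mk' (fun h => f (c h)) fun a b => ?_, fun c' h hc' => huniq c' h hc'⟩
  rw [← map_mul]
  refine huniq _ _ ?_
  show ((c a : Cz z) * (c b : Cz z))⁻¹ * ((a : Cz z) * (b : Cz z)) ∈ D.core.O
  rw [show ((c a : Cz z) * (c b : Cz z))⁻¹ * ((a : Cz z) * (b : Cz z)) =
    ((c b : Cz z)⁻¹ * ((c a : Cz z)⁻¹ * a) * (c b : Cz z)) * ((c b : Cz z)⁻¹ * b) by group]
  refine mul_mem ?_ (hc b)
  have := hT.spec.core.onorm.conj_mem _ (hc a) (c b : Cz z)⁻¹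
  rwa [inv_inv] at this

/-- The extension to `HW` of a homomorphism trivial on the fixed part of the core. -/
noncomputable def ext : ↥(HW D) →* A := (exists_ext hT hf).choose

theorem ext_of_mem {c : ↥(CW D)} {h : ↥(HW D)} (hh : (c : Cz z)⁻¹ * (h : Cz z) ∈ D.core.O) : ext hT hf h = f c :=
  (exists_ext hT hf).choose_spec c h hh

theorem ext_coe (c : ↥(CW D)) : ext hT hf ⟨c, CW_le_HW hT c.2⟩ = f c :=
  ext_of_mem hT hf (by show (c : Cz z)⁻¹ * (c : Cz z) ∈ _; rw [inv_mul_cancel]; exact one_mem _)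

end Ext

theorem piU_core (c : ↥(CW D)) (hc : (c : Cz z) ∈ D.core.O) : piU hT c = 1 :=
  (piU_odd_iff hT c).2 (by
    rw [← Subgroup.orderOf_coe]
    exact hT.spec.core.oodd.of_dvd_nat (Subgroup.orderOf_dvd_natCard _ hc))

/-- The projection of `HW` onto the four group. -/
noncomputable def rho : ↥(HW D) →* ↥(D.core.T true) := ext hT (piU_core hT)

theorem rho_of_mem {c : ↥(CW D)} {h : ↥(HW D)} (hh : (c : Cz z)⁻¹ * (h : Cz z) ∈ D.core.O) : rho hT h = piU hT c :=
  ext_of_mem hT _ hh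

/-- An element moving into `HW` an element with an odd part outside the core lies in `HW ∪ n HW`. -/
theorem mem_HW_cases {g : Cz z} {h : ↥(HW D)} {c : ↥(CW D)} (hh : (c : Cz z)⁻¹ * (h : Cz z) ∈ D.core.O)
    (hc : (((uCW hT (piU hT c))⁻¹ * c : ↥(CW D)) : Cz z) ∉ D.core.O) (hg : g * (h : Cz z) * g⁻¹ ∈ HW D) :
    g ∈ HW D ∨ (D.core.n true)⁻¹ * g ∈ HW D := by
  haveI := hT.spec.core.onorm
  obtain ⟨k, hkodd, hck, hcomm⟩ := exists_decomp hT c
  have hk : (uCW hT (piU hT c))⁻¹ * c = k := by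
    rw [inv_mul_eq_iff_eq_mul]
    exact hck
  rw [hk] at hc
  set m := orderOf k + 1
  have hpow : c ^ m = k := by
    have ht2 : uCW hT (piU hT c) ^ 2 = 1 := by
      rw [← map_pow, show piU hT c ^ 2 = 1 from Subtype.ext ?_, map_one]
      show (piU hT c : Cz z) ^ 2 = 1
      obtain ⟨hz1, hz2⟩ := zc_ne hT.spec
      rcases U_cases hT (piU hT c).2 with e | e | e | e <;> rw [e, sq]
      · exact one_mul 1
      · exact hz2
      · exact hT.spec.wsq
      · rw [mul_assoc, ← mul_assoc D.w, zc_comm hT.spec D.w, mul_assoc D.zc D.w, hT.spec.wsq, mul_one, hz2]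
    obtain ⟨j, hj⟩ := hkodd
    conv_lhs => rw [hck]
    rw [hcomm.mul_pow, show m = 2 * (j + 1) by omega, pow_mul, ht2, one_pow, one_mul,
      show 2 * (j + 1) = orderOf k + 1 by omega, pow_succ, pow_orderOf_eq_one, one_mul]
  have h1 : g * (c : Cz z) * g⁻¹ ∈ HW D := by
    rw [show g * (c : Cz z) * g⁻¹ = (g * (h : Cz z) * g⁻¹) * (g * ((c : Cz z)⁻¹ * h)⁻¹ * g⁻¹) by group]
    exact mul_mem hg (O_le_HW hT (hT.spec.core.onorm.conj_mem _ (inv_mem hh) g))
  have h2 : g * (k : Cz z) * g⁻¹ ∈ HW D := by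
    rw [← hpow, Subgroup.coe_pow, ← conj_pow]
    exact pow_mem h1 m
  rcases hT.ti g k ((mem_CW hT).1 k.2) (by rwa [Subgroup.orderOf_coe]) hc (HW_fix hT h2) with e | e
  · exact Or.inl (mem_HW_of_fix hT e)
  · refine Or.inr (mem_HW_of_fix hT ?_)
    have h3 := hT.spec.core.onorm.conj_mem _ e (D.core.n true)⁻¹
    rw [inv_inv] at h3
    have e2 : (D.core.n true)⁻¹ * (g * D.w * g⁻¹ * (D.zc * D.w)⁻¹) * D.core.n true =
        (D.core.n true)⁻¹ * g * D.w * ((D.core.n true)⁻¹ * g)⁻¹ *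
          ((D.core.n true)⁻¹ * (D.zc * D.w) * D.core.n true)⁻¹ := by group
    rw [e2] at h3
    have e3 : (D.core.n true)⁻¹ * (D.zc * D.w) * D.core.n true = D.w := by
      rw [mul_assoc, inv_mul_eq_iff_eq_mul]
      have := n_w hT
      rw [mul_inv_eq_iff_eq_mul] at this
      exact this.symm
    rwa [e3] at h3

end CfsgLib.RankTwoModel.L4.Moved
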