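import Cfsg.Agent.Lib.RankTwoModel.L4.Moved.Proj

/-!
The points fixed by the elements of odd order of `HW` (blueprint/RankTwo_L45.md, D2).

* `fix_two`: with the positive sign they fix the two points of `w`;
* `mem_O_of_fix`: with the negative sign those with a fixed point lie in the core.
-/

set_option autoImplicit false
set_option linter.unusedSectionVars false
set_option linter.style.haveILetI false

namespace CfsgLib.RankTwoModel.L4.Moved

open Cfsg CfsgLib.BrauerOrder CfsgLib.CharTheory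

universe u v

variable {G : Type u} [Group G] [Fintype G] {z : G} [Fintype (Cz z)] {Ω : Type v} [MulAction (Cz z) Ω]
  [Finite Ω] {D : Sys G z} {i : ℕ} (hT : Tor D Ω i)
include hT

theorem smul_w_comm {h : Cz z} (hh : h ∈ HW D) (c : Ω) : D.w • (h • c) = h • (D.w • c) := by
  set o := h * D.w * h⁻¹ * D.w⁻¹ with ho
  have e : h * D.w = o * (D.w * h) := by rw [ho]; group
  rw [← mul_smul, ← mul_smul, e, mul_smul o (D.w * h), hT.spec.core.otriv o (HW_fix hT hh)]

theorem fix_two (hσ : D.core.σ true = 1) :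
    ∃ a b : Ω, a ≠ b ∧ ∀ m : ↥(HW D), Odd (orderOf m) → (m : Cz z) • a = a ∧ (m : Cz z) • b = b := by
  classical
  letI := Fintype.ofFinite Ω
  have h2 : (MulAction.fixedBy Ω D.w).ncard = 2 := by
    have := hT.spec.core.fix true D.w hT.spec.wT hT.spec.wZ
    rw [hσ, Nat.card_coe_set_eq] at this
    omega
  obtain ⟨a, b, hab, hs⟩ := Set.ncard_eq_two.1 h2
  have hmem : ∀ {c : Ω}, D.w • c = c ↔ c = a ∨ c = b := fun {c} => by
    have := Set.ext_iff.1 hs c
    simpa using this
  refine ⟨a, b, hab, fun m hm => ?_⟩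
  suffices h : ∀ c, D.w • c = c → (m : Cz z) • c = c from
    ⟨h a (hmem.2 (Or.inl rfl)), h b (hmem.2 (Or.inr rfl))⟩
  intro c hc
  have hm1 : ∀ d, D.w • d = d → D.w • ((m : Cz z) • d) = (m : Cz z) • d := fun d hd => by
    rw [smul_w_comm hT m.2, hd]
  have h2c : ((m : Cz z) ^ 2) • c = c := by
    rw [sq, mul_smul]
    by_cases e : (m : Cz z) • c = c
    · rw [e, e]
    have hne : (m : Cz z) • ((m : Cz z) • c) ≠ (m : Cz z) • c := fun h => e (smul_left_cancel _ h)
    rcases hmem.1 hc with r1 | r1 <;> rcases hmem.1 (hm1 c hc) with r2 | r2 <;>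
      rcases hmem.1 (hm1 _ (hm1 c hc)) with r3 | r3
    all_goals first
      | exact r3.trans r1.symm
      | exact absurd (r2.trans r1.symm) e
      | exact absurd (r3.trans r2.symm) hne
  obtain ⟨j, hj⟩ := hm
  have e : (m : Cz z) = ((m : Cz z) ^ 2) ^ (j + 1) := by
    rw [← pow_mul, show 2 * (j + 1) = orderOf m + 1 by omega, pow_succ, ← Subgroup.coe_pow, pow_orderOf_eq_one,
      Subgroup.coe_one, one_mul]
  rw [e]
  exact pow_mem (show (m : Cz z) ^ 2 ∈ MulAction.stabilizer (Cz z) c from h2c) (j + 1)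

theorem mem_O_of_fix (hσ : D.core.σ true = -1) {m : ↥(HW D)} (hm : Odd (orderOf m)) {c : Ω}
    (hc : (m : Cz z) • c = c) : (m : Cz z) ∈ D.core.O := by
  classical
  letI := Fintype.ofFinite Ω
  haveI := hT.spec.core.onorm
  have hq3 := hT.spec.core.qlb
  set q := D.core.q
  have hQ : D.Q = -(q : ℤ) := by rw [Sys.Q, hσ]; ring
  have hw : ∀ d : Ω, D.w • d ≠ d := fun d hd => by
    have h0 := hT.spec.core.fix true D.w hT.spec.wT hT.spec.wZ
    rw [hσ] at h0
    haveI : Nonempty ↥(MulAction.fixedBy Ω D.w) := ⟨⟨d, hd⟩⟩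
    have := Nat.card_pos (α := ↥(MulAction.fixedBy Ω D.w))
    omega
  set P := MulAction.stabilizer (Cz z) ((c, D.w • c) : Ω × Ω)
  have hmP : (m : Cz z) ∈ P := MulAction.mem_stabilizer_iff.2 (Prod.ext hc (by
    show (m : Cz z) • (D.w • c) = D.w • c
    rw [← smul_w_comm hT m.2, hc]))
  have hOP : D.core.O ≤ P := fun o ho => MulAction.mem_stabilizer_iff.2
    (Prod.ext (hT.spec.core.otriv o ho _) (hT.spec.core.otriv o ho _))
  -- the order of the stabiliser of the pair
  have horb : MulAction.orbit (Cz z) ((c, D.w • c) : Ω × Ω) = ↑(Finset.univ.offDiag : Finset (Ω × Ω)) := by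
    ext ⟨a, b⟩
    simp only [Finset.coe_offDiag, Finset.coe_univ, Set.mem_offDiag, Set.mem_univ, true_and, MulAction.mem_orbit_iff]
    constructor
    · rintro ⟨g, hg⟩ e
      obtain ⟨e1, e2⟩ := Prod.mk.inj hg
      exact hw c (smul_left_cancel g (by rw [e1, e2, e]))
    · intro hab
      obtain ⟨g, g1, g2⟩ := hT.spec.core.two c (D.w • c) a b (hw c).symm hab
      exact ⟨g, Prod.ext g1 g2⟩
  have hidxP : P.index = (q + 1) * (q + 1) - (q + 1) := by
    rw [MulAction.index_stabilizer, horb, Set.ncard_coe_finset, Finset.offDiag_card, Finset.card_univ,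
      ← Nat.card_eq_fintype_card, hT.spec.core.card]
  have hC : Nat.card (Cz z) = 2 * Nat.card D.core.O * ((q + 1) * q * (q - 1)) := by
    rw [hT.hidx, hT.hcw, hT.hi, hQ, Int.natAbs_mul, show (-(q : ℤ) - 1).natAbs = q + 1 by omega,
      show (-(q : ℤ)).natAbs = q by omega, show (-(q : ℤ) + 1).natAbs = q - 1 by omega]
    ring
  have hP : Nat.card P = 2 * Nat.card D.core.O * (q - 1) := by
    have h := P.card_mul_index
    rw [hidxP, hC, show (q + 1) * (q + 1) - (q + 1) = (q + 1) * q by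
      rw [← Nat.mul_sub_one (q + 1) (q + 1)]; simp] at h
    refine Nat.eq_of_mul_eq_mul_right (show 0 < (q + 1) * q by positivity) ?_
    rw [h]; ring
  have hP1 : (m : Cz z) ^ (2 * (q - 1)) ∈ D.core.O := by
    have h := (D.core.O.subgroupOf P).card_mul_index
    rw [Nat.card_congr (Subgroup.subgroupOfEquivOfLe hOP).toEquiv, hP] at h
    have hi : (D.core.O.subgroupOf P).index = 2 * (q - 1) := by
      refine Nat.eq_of_mul_eq_mul_left (Nat.card_pos (α := D.core.O)) ?_
      rw [h]; ring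
    have := Subgroup.pow_index_mem (D.core.O.subgroupOf P) (⟨(m : Cz z), hmP⟩ : ↥P)
    rw [hi, Subgroup.mem_subgroupOf] at this
    exact this
  -- the order of the centraliser of `w`
  have hP2 : (m : Cz z) ^ (2 * (q + 1)) ∈ D.core.O := by
    obtain ⟨k, hk⟩ := exists_rep hT m
    have h := (D.core.O.subgroupOf (CW D)).card_mul_index
    rw [← Subgroup.inf_subgroupOf_right, Nat.card_congr (Subgroup.subgroupOfEquivOfLe inf_le_right).toEquiv,
      card_cent_w, hT.hcw, hQ, show (-(q : ℤ) - 1).natAbs = q + 1 by omega, Subgroup.inf_subgroupOf_right] at h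
    have hi : (D.core.O.subgroupOf (CW D)).index = 2 * (q + 1) := by
      refine Nat.eq_of_mul_eq_mul_left (Nat.card_pos (α := ↥(D.core.O ⊓ CW D))) ?_
      rw [h]; ring
    have := Subgroup.pow_index_mem (D.core.O.subgroupOf (CW D)) k
    rw [hi, Subgroup.mem_subgroupOf, Subgroup.coe_pow] at this
    rw [← QuotientGroup.eq_one_iff, QuotientGroup.mk_pow,
      show ((m : Cz z) : Cz z ⧸ D.core.O) = ((k : Cz z) : Cz z ⧸ D.core.O) from (QuotientGroup.eq.2 hk).symm,
      ← QuotientGroup.mk_pow]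
    exact (QuotientGroup.eq_one_iff _).2 this
  have h4 : (m : Cz z) ^ 4 ∈ D.core.O := by
    have h := D.core.O.mul_mem (D.core.O.inv_mem hP1) hP2
    rwa [show 2 * (q + 1) = 2 * (q - 1) + 4 by omega, pow_add, inv_mul_cancel_left] at h
  have hcop : Nat.Coprime 4 (orderOf (m : Cz z)) := by
    rw [Subgroup.orderOf_coe]
    exact ((Nat.prime_two.coprime_iff_not_dvd.2 fun hd =>
      (Nat.not_even_iff_odd.2 hm) (even_iff_two_dvd.2 hd)).pow_left 2)
  obtain ⟨j, hj⟩ := exists_pow_eq_self_of_coprime hcop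
  rw [← hj]
  exact pow_mem h4 j

end CfsgLib.RankTwoModel.L4.Moved
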