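import Cfsg.Agent.Lib.RankTwoModel.L4.Moved.Norm

/-!
The four moved functions and their alternating sum (blueprint/RankTwo_L45.md, D2).

* `ch`, `sg`: the characters of the four group and their values at the central involution;
* `xi_orth`, `xi_pairing`: the functions are orthonormal, each pairs with the character on the coset of `w`;
* `psum`: the alternating sum, of norm four and supported on the section of the central involution.
-/

set_option autoImplicit false
set_option linter.unusedSectionVars false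
set_option linter.style.haveILetI false

namespace CfsgLib.RankTwoModel.L4.Moved

open Cfsg CfsgLib.BrauerOrder CfsgLib.CharTheory
open scoped ComplexConjugate

universe u v

variable {G : Type u} [Group G] [Fintype G] {z : G} [Fintype (Cz z)] {Ω : Type v} [MulAction (Cz z) Ω]
  [Finite Ω] {D : Sys G z} {i : ℕ}

/-- The characters of the four group. -/
noncomputable def ch (D : Sys G z) : Fin 4 → (↥(D.core.T true) →* ℂˣ) :=
  ![1, D.lamT true, D.τ0, D.τ0 * D.lamT true]

/-- The signs of the characters at the central involution. -/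
noncomputable def sg : Fin 4 → ℂ := ![1, 1, -1, -1]

theorem sg_sq (j : Fin 4) : sg j * sg j = 1 := by fin_cases j <;> simp [sg]

theorem conj_sg (j : Fin 4) : conj (sg j) = sg j := by fin_cases j <;> simp [sg]

variable {ψ : ↥(CW D) →* ℂˣ} (H : Chi D Ω i ψ)
include H

/-- The central involution in the four group. -/
noncomputable def Chi.zU : ↥(D.core.T true) := ⟨D.zc, H.tor.spec.core.zle true H.tor.spec.zcZ⟩

/-- The second involution in the four group. -/
noncomputable def Chi.wU : ↥(D.core.T true) := ⟨D.w, H.tor.spec.wT⟩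

theorem lam_w : D.lam D.w = -1 := by
  obtain ⟨t, ht, hl⟩ := H.tor.spec.lamU
  have h1 : (1 : ℂˣ) ≠ -1 := fun e => by
    have := congrArg Units.val e
    norm_num at this
  rcases U_cases H.tor ht with rfl | rfl | rfl | rfl
  · rw [map_one] at hl; exact absurd hl h1
  · rw [H.tor.spec.lamz] at hl; exact absurd hl h1
  · exact hl
  · rwa [map_mul, H.tor.spec.lamz, one_mul] at hl

theorem tau_values : (D.τ0 H.zU : ℂ) = -1 ∧ (D.τ0 H.wU : ℂ) * (D.τ0 H.wU : ℂ) = 1 := by
  have hsq : (D.τ0 H.wU : ℂ) * (D.τ0 H.wU : ℂ) = 1 := by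
    rw [← Units.val_mul, H.tor.spec.tau0sq, Units.val_one]
  refine ⟨?_, hsq⟩
  have h := congrArg Units.val (H.tor.spec.tau0mul H.wU)
  have hc : D.core.conjChar (H.tor.spec.core.nnorm true) D.τ0 H.wU = D.τ0 H.zU * D.τ0 H.wU := by
    rw [← map_mul]
    exact congrArg D.τ0 (Subtype.ext H.tor.spec.nw)
  rw [hc, show D.lam (H.wU : Cz z) = -1 from lam_w H] at h
  simp only [Units.val_mul, Units.val_neg, Units.val_one] at h
  linear_combination h - (D.τ0 H.zU : ℂ) * hsq

theorem ch_z (j : Fin 4) : (ch D j H.zU : ℂ) = sg j := by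
  have hl : D.lamT true H.zU = 1 := H.tor.spec.lamz
  fin_cases j <;> simp [ch, sg, hl, (tau_values H).1]

theorem ch_w : (ch D 0 H.wU : ℂ) = 1 ∧ (ch D 1 H.wU : ℂ) = -1 ∧ (ch D 2 H.wU : ℂ) = (D.τ0 H.wU : ℂ) ∧
    (ch D 3 H.wU : ℂ) = -(D.τ0 H.wU : ℂ) := by
  have hl : D.lamT true H.wU = -1 := lam_w H
  simp [ch, hl]

open Classical in
/-- The column orthogonality of the four characters. -/
theorem sum_ch (t : ↥(D.core.T true)) :
    ∑ j, sg j * (ch D j t : ℂ) = if (t : Cz z) = D.zc then 4 else 0 := by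
  obtain ⟨w0, w1, w2, w3⟩ := ch_w H
  obtain ⟨hz1, hz2⟩ := zc_ne H.tor.spec
  have hwz : D.w ≠ D.zc := fun e => H.tor.spec.wZ (e ▸ H.tor.spec.zcZ)
  have hw1 : D.w ≠ 1 := fun e => H.tor.spec.wZ (e ▸ one_mem _)
  rcases U_cases H.tor t.2 with e | e | e | e
  · rw [show t = 1 from Subtype.ext e, if_neg (fun h => hz1 h.symm)]
    simp [Fin.sum_univ_four, sg]
  · rw [show t = H.zU from Subtype.ext e, if_pos (show (H.zU : Cz z) = D.zc from rfl), Fin.sum_univ_four, ch_z H, ch_z H, ch_z H, ch_z H]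
    simp [sg]; norm_num
  · rw [show t = H.wU from Subtype.ext e, if_neg (show (H.wU : Cz z) ≠ D.zc from hwz), Fin.sum_univ_four, w0, w1,
      w2, w3]
    simp [sg]
  · rw [show t = H.zU * H.wU from Subtype.ext e, if_neg (show ((H.zU * H.wU : ↥(D.core.T true)) : Cz z) ≠ D.zc from
      fun h => hw1 (mul_eq_left.1 h)), Fin.sum_univ_four]
    simp only [map_mul, Units.val_mul, ch_z H, w0, w1, w2, w3]
    simp [sg]

theorem ch_wv (j : Fin 4) :
    (ch D j H.wU : ℂ) = (![1, -1, (D.τ0 H.wU : ℂ), -(D.τ0 H.wU : ℂ)] : Fin 4 → ℂ) j := by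
  have hl : D.lamT true H.wU = -1 := lam_w H
  fin_cases j <;> simp [ch, hl]

theorem ch_inj {a b : Fin 4} (hz : (ch D a H.zU : ℂ) = ch D b H.zU) (hw : (ch D a H.wU : ℂ) = ch D b H.wU) :
    a = b := by
  have hτ : (D.τ0 H.wU : ℂ) ≠ 0 := Units.ne_zero _
  rw [ch_z H, ch_z H] at hz
  rw [ch_wv H, ch_wv H] at hw
  fin_cases a <;> fin_cases b
  all_goals first
    | rfl
    | (norm_num [sg] at hz; done)
    | (norm_num [CharZero.eq_neg_self_iff, CharZero.neg_eq_self_iff, hτ] at hw; done)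

/-- The values outside the central part. -/
theorem xi_out (μ : ↥(D.core.T true) →* ℂˣ) (h : ↥(HW D)) (ht : (rho H.tor h : Cz z) ∉ D.core.Z) :
    H.xi μ (h : Cz z) = (μ (rho H.tor h) : ℂ) * (H.lamh h : ℂ) +
      (D.core.conjChar (H.tor.spec.core.nnorm true) μ (rho H.tor h) : ℂ) * (H.lamh (nHW H.tor h) : ℂ) := by
  have e : (μ (rho H.tor (nHW H.tor h)) : ℂ) =
      (D.core.conjChar (H.tor.spec.core.nnorm true) μ (rho H.tor h) : ℂ) := by
    rw [show rho H.tor (nHW H.tor h) = ⟨D.core.n true * rho H.tor h * (D.core.n true)⁻¹,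
      H.tor.spec.core.nnorm true _ (rho H.tor h).2⟩ from Subtype.ext (rho_nHW H.tor h)]
    rfl
  rw [Chi.xi, Pi.add_apply, ind_HW H, R_out H.tor μ h ht]
  simp only [Chi.delta, e]
  ring

/-- The values on the coset of `w`. -/
theorem xi_wk (μ : ↥(D.core.T true) →* ℂˣ) {k : ↥(CW D)} (hk : Odd (orderOf k)) :
    H.xi μ (D.w * (k : Cz z)) = (μ H.wU : ℂ) * (ψ k : ℂ) +
      (μ H.zU : ℂ) * (μ H.wU : ℂ) * (ψ (nCW H.tor k) : ℂ) := by
  set c : ↥(CW D) := uCW H.tor H.wU * k
  set h : ↥(HW D) := ⟨c, CW_le_HW H.tor c.2⟩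
  have hc : (c : Cz z)⁻¹ * (h : Cz z) ∈ D.core.O := by
    show (c : Cz z)⁻¹ * (c : Cz z) ∈ _
    rw [inv_mul_cancel]; exact one_mem _
  have hr : rho H.tor h = H.wU := by
    rw [rho_of_mem H.tor hc, map_mul, piU_u, (piU_odd_iff H.tor k).2 hk, mul_one]
  have hl : H.lamh h = ψ k := by rw [lamh_of_mem H hc, map_mul, H.four, one_mul]
  have hl' : H.lamh (nHW H.tor h) = ψ (nCW H.tor k) := by
    rw [lamh_of_mem H (rep_nHW H.tor hc), map_mul, map_mul,
      show nCW H.tor (uCW H.tor H.wU) = uCW H.tor ⟨D.core.n true * H.wU * (D.core.n true)⁻¹,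
        H.tor.spec.core.nnorm true _ H.wU.2⟩ from Subtype.ext (n_inv_conj H.tor H.wU.2), H.four, one_mul]
  have hμ : D.core.conjChar (H.tor.spec.core.nnorm true) μ H.wU = μ H.zU * μ H.wU := by
    rw [← map_mul]; exact congrArg μ (Subtype.ext H.tor.spec.nw)
  have h' := xi_out H μ h (by rw [hr]; exact H.tor.spec.wZ)
  rw [hr, hl, hl', hμ, Units.val_mul] at h'
  exact h'

theorem xi_ne {a b : Fin 4} (hab : a ≠ b) : H.xi (ch D a) ≠ H.xi (ch D b) := by
  intro e
  obtain ⟨k, hk, hne⟩ := exists_moved H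
  have h0 := congrFun e (D.w * ((1 : ↥(CW D)) : Cz z))
  have h1 := congrFun e (D.w * (k : Cz z))
  rw [xi_wk H _ (by rw [orderOf_one]; exact odd_one), xi_wk H _ (by rw [orderOf_one]; exact odd_one)] at h0
  rw [xi_wk H _ hk, xi_wk H _ hk] at h1
  simp only [map_one, Units.val_one, mul_one] at h0
  have hne' : (ψ k : ℂ) - (ψ (nCW H.tor k) : ℂ) ≠ 0 := fun h => hne (Units.ext (sub_eq_zero.1 h).symm)
  have hw : (ch D a H.wU : ℂ) = ch D b H.wU := by
    have h2 : ((ch D a H.wU : ℂ) - ch D b H.wU) * ((ψ k : ℂ) - (ψ (nCW H.tor k) : ℂ)) = 0 := by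
      linear_combination h1 - (ψ (nCW H.tor k) : ℂ) * h0
    exact sub_eq_zero.1 ((mul_eq_zero.1 h2).resolve_right hne')
  refine hab (ch_inj H ?_ hw)
  rw [← hw] at h0
  exact mul_right_cancel₀ (Units.ne_zero (ch D a H.wU)) (add_left_cancel h0)

theorem deg_ne_zero : (D.Q : ℂ) + 1 ≠ 0 := by
  intro h
  have h' : D.Q + 1 = 0 := by exact_mod_cast h
  have h3 := H.tor.spec.core.qlb
  rw [Sys.Q] at h'
  rcases H.tor.spec.core.sgn true with e | e <;> rw [e] at h' <;> omega

/-- The functions are irreducible up to sign. -/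
theorem xi_irr (μ : ↥(D.core.T true) →* ℂˣ) : ∃ (χ : IrrCharacter (Cz z)) (ε : ℂ),
    (ε = 1 ∨ ε = -1) ∧ H.xi μ = ε • (χ : Cz z → ℂ) := by
  rcases xi_signed H μ with h | h
  · exact ⟨⟨_, h⟩, 1, Or.inl rfl, (one_smul _ _).symm⟩
  · exact ⟨⟨_, h⟩, -1, Or.inr rfl, by simp⟩

theorem xi_orth (a b : Fin 4) : classInner (H.xi (ch D a)) (H.xi (ch D b)) = if a = b then 1 else 0 := by
  by_cases hab : a = b
  · rw [if_pos hab, hab, xi_norm H]
  rw [if_neg hab]
  obtain ⟨χ, ε, hε, eχ⟩ := xi_irr H (ch D a)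
  obtain ⟨χ', ε', hε', eχ'⟩ := xi_irr H (ch D b)
  rw [eχ, eχ', classInner_smul_left, classInner_smul_right,
    classInner_irr_ne χ.2 χ'.2 fun e => ?_, mul_zero, mul_zero]
  have h1 := congrFun eχ 1
  have h2 := congrFun eχ' 1
  rw [xi_one H, Pi.smul_apply, smul_eq_mul] at h1 h2
  rw [← e] at h2 eχ'
  have hχ : ((χ : Cz z → ℂ) 1) ≠ 0 := fun h => deg_ne_zero H (by rw [h1, h, mul_zero])
  exact xi_ne H hab (by rw [eχ, eχ', mul_right_cancel₀ hχ (h1.symm.trans h2)])

open Classical in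
/-- **Each function pairs with the character on the coset of `w`.** -/
theorem xi_pairing [Fintype ↥(CW D)] (μ : ↥(D.core.T true) →* ℂˣ) :
    ∑ y ∈ Finset.univ.filter (fun y : ↥(CW D) => ¬ 2 ∣ orderOf y),
      H.xi μ (D.w * (y : Cz z)) * conj (ψ y : ℂ) ≠ 0 := by
  have hodd : ∀ y : ↥(CW D), ¬ 2 ∣ orderOf y ↔ y ∈ (piU H.tor).ker := fun y => by
    rw [MonoidHom.mem_ker, piU_odd_iff H.tor, ← even_iff_two_dvd, Nat.not_even_iff_odd]
  rw [Finset.sum_subtype (p := fun y => y ∈ (piU H.tor).ker) _ (fun y => by simp [hodd])]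
  set χ : ↥(piU H.tor).ker →* ℂˣ := (ψ.comp (nCW H.tor) * ψ⁻¹).comp (piU H.tor).ker.subtype
  have hχ : χ ≠ 1 := fun e => by
    obtain ⟨k, hk, hne⟩ := exists_moved H
    have := DFunLike.congr_fun e ⟨k, (MonoidHom.mem_ker).2 ((piU_odd_iff H.tor k).2 hk)⟩
    simp only [χ, MonoidHom.comp_apply, MonoidHom.mul_apply, MonoidHom.inv_apply, MonoidHom.one_apply,
      mul_inv_eq_one] at this
    exact hne this
  have hterm : ∀ y : ↥(piU H.tor).ker, H.xi μ (D.w * ((y : ↥(CW D)) : Cz z)) * conj (ψ y : ℂ) =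
      (μ H.wU : ℂ) + (μ H.zU : ℂ) * (μ H.wU : ℂ) * (χ y : ℂ) := by
    intro y
    have hk : Odd (orderOf (y : ↥(CW D))) := (piU_odd_iff H.tor _).1 (MonoidHom.mem_ker.1 y.2)
    rw [xi_wk H μ hk, conj_hom_apply]
    simp only [χ, MonoidHom.comp_apply, MonoidHom.mul_apply, MonoidHom.inv_apply, Units.val_mul,
      Subgroup.coe_subtype]
    rw [map_inv, Units.val_inv_eq_inv_val]
    have := Units.ne_zero (ψ (y : ↥(CW D)))
    field_simp
  rw [Finset.sum_congr rfl fun y _ => hterm y, Finset.sum_add_distrib, ← Finset.mul_sum, sum_units, if_neg hχ,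
    mul_zero, add_zero, Finset.sum_const, Finset.card_univ, nsmul_eq_mul]
  exact mul_ne_zero (Nat.cast_ne_zero.2 Fintype.card_ne_zero) (Units.ne_zero _)

/-- The alternating sum. -/
noncomputable def Chi.psum : Cz z → ℂ := fun g => ∑ j, sg j * H.xi (ch D j) g

theorem psum_eq : H.psum = ∑ j, sg j • H.xi (ch D j) := by
  funext g
  simp [Chi.psum, Finset.sum_apply]

theorem psum_class : IsClassFunction (Cz z) H.psum := fun x y => by
  simp only [Chi.psum, Chi.xi, Pi.add_apply, R_isClassFunction H.tor.spec.core true _ x y,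
    indFun_isClassFunction (HW D) _ x y]

theorem inner_psum (j : Fin 4) : classInner (H.xi (ch D j)) H.psum = sg j := by
  rw [psum_eq H, classInner_sum_right]
  simp only [classInner_smul_right, xi_orth H, conj_sg, mul_ite, mul_one, mul_zero, Finset.sum_ite_eq,
    Finset.mem_univ, if_true]

theorem psum_norm : classInner H.psum H.psum = 4 := by
  nth_rewrite 1 [psum_eq H]
  rw [classInner_sum_left]
  simp only [classInner_smul_left, inner_psum H, sg_sq]
  simp

theorem psum_zc : H.psum D.zc = 4 * ((D.Q : ℂ) + 1) := by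
  have hp : p2 D.zc = D.zc := by
    have := p2_mul (two_of_mem H.tor.spec.core H.zU.2) (Commute.one_left (H.zU : Cz z)) (by simp)
    rwa [mul_one] at this
  have hs : St Ω D.zc = (D.core.q : ℂ) := by
    have : MulAction.fixedBy Ω D.zc = Set.univ := by
      ext a; simp [H.tor.spec.core.ztriv D.zc H.tor.spec.zcZ a]
    rw [St, this, Nat.card_congr (Equiv.Set.univ Ω), H.tor.spec.core.card]
    push_cast; ring
  have h0 : ∀ μ, indFun (HW D) (H.delta μ) D.zc = 0 := fun μ => by
    have := ind_HW H μ (uHW H.tor H.zU)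
    rw [uHW_coe] at this
    rw [show D.zc = (H.zU : Cz z) from rfl, this, nHW_u H, delta_zero H (lamh_u H _), delta_zero H (lamh_u H _),
      add_zero]
  have hx : ∀ j, H.xi (ch D j) D.zc = sg j * ((D.Q : ℂ) + 1) := fun j => by
    rw [Chi.xi, Pi.add_apply, h0, add_zero, R_ctype H.tor.spec.core true _ H.tor.spec.zcZ
      (by rw [hp, mul_inv_cancel]; exact one_mem _), tv_mem _ (H.tor.spec.core.zle true H.tor.spec.zcZ), hs, ← ch_z H j, Sys.Q]
    push_cast
    rw [show (⟨D.zc, H.tor.spec.core.zle true H.tor.spec.zcZ⟩ : ↥(D.core.T true)) = H.zU from rfl]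
    ring
  simp only [Chi.psum, hx, ← mul_assoc, sg_sq, one_mul]
  simp [Finset.sum_const]
  ring

/-- A two-element congruent to the central involution modulo the core equals it. -/
theorem p2_eq_zc {g : Cz z} (h : p2 g * D.zc⁻¹ ∈ D.core.O) : p2 g = D.zc := by
  obtain ⟨k, hk⟩ := p2_two g
  refine mul_inv_eq_one.1 (odd_S_trivial H.tor.spec.core h ?_)
  have hc : Commute (p2 g) D.zc⁻¹ := (show Commute (p2 g) D.zc from zc_comm H.tor.spec _).inv_right
  have h2 : orderOf D.zc⁻¹ ∣ 2 := orderOf_dvd_of_pow_eq_one (by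
    rw [inv_pow, sq, (zc_ne H.tor.spec).2, inv_one])
  have hd : orderOf (p2 g * D.zc⁻¹) ∣ 2 ^ (k + 1) := hc.orderOf_mul_dvd_lcm.trans
    (Nat.lcm_dvd (by rw [hk]; exact pow_dvd_pow 2 (Nat.le_succ k)) (h2.trans (dvd_pow_self 2 (Nat.succ_ne_zero k))))
  obtain ⟨a, -, ha⟩ := (Nat.dvd_prime_pow Nat.prime_two).1 hd
  exact ⟨a, ha⟩

/-- The alternating sum lives on the section of the central involution. -/
theorem psum_zero {g : Cz z} (hg : p2 g ≠ D.zc) : H.psum g = 0 := by
  classical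
  have hD := H.tor.spec
  haveI := hD.core.onorm
  simp only [Chi.psum, Chi.xi, Pi.add_apply, mul_add, Finset.sum_add_distrib]
  have hR : ∑ j, sg j * D.core.R Ω true (ch D j) g = 0 := by
    rcases types hD.core g with ⟨u, hu, h⟩ | h | h
    · rcases Z_cases H.tor hu with rfl | rfl
      · simp only [R_ctype hD.core true _ hu h, tv_mem _ (one_mem _), ← mul_assoc, ← Finset.sum_mul]
        rw [sum_ch H, if_neg (fun h => (zc_ne hD).1 h.symm), zero_mul]
      · exact absurd (p2_eq_zc H h) hg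
    · simp only [R_other hD.core true _ h, mul_zero, Finset.sum_const_zero]
    · obtain ⟨t, ht, hz, hc⟩ := h
      simp only [R_ttype hD.core true _ ht hz hc, tv_mem _ ht, tv_mem _ (hD.core.nnorm true t ht), mul_add,
        Finset.sum_add_distrib, sum_ch H]
      rw [if_neg (show ((⟨t, ht⟩ : ↥(D.core.T true)) : Cz z) ≠ D.zc from fun e => hz (by
          rw [show t = D.zc from e]; exact hD.zcZ)),
        if_neg (show ((⟨_, hD.core.nnorm true t ht⟩ : ↥(D.core.T true)) : Cz z) ≠ D.zc from fun e =>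
          ncj_not_mem hD.core ht hz (by
            rw [show D.core.n true * t * (D.core.n true)⁻¹ = D.zc from e]; exact hD.zcZ)), add_zero]
  rw [hR, zero_add]
  have hswap : ∑ j, sg j * indFun (HW D) (H.delta (ch D j)) g =
      indFun (HW D) (fun h => ∑ j, sg j * H.delta (ch D j) h) g := by
    have e : (fun h => ∑ j, sg j * H.delta (ch D j) h) = ∑ j, sg j • H.delta (ch D j) := by
      funext h; simp [Finset.sum_apply]
    rw [e, indFun_sum, Finset.sum_apply]
    simp only [indFun_smul, Pi.smul_apply, smul_eq_mul]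
  rw [hswap, indFun]
  refine mul_eq_zero_of_right _ (Finset.sum_eq_zero fun x _ => ?_)
  by_cases hx : x⁻¹ * g * x ∈ HW D
  · rw [extendByZero_of_mem _ _ hx]
    set h : ↥(HW D) := ⟨_, hx⟩
    simp only [Chi.delta, ← mul_assoc, ← Finset.sum_mul]
    rw [sum_ch H]
    split_ifs with hz
    · exfalso
      set m := (uHW H.tor (rho H.tor h))⁻¹ * h
      have hm : Odd (orderOf m) := (rho_eq_one_iff H.tor m).1 (by rw [map_mul, map_inv, rho_u, inv_mul_cancel])
      have e : (h : Cz z) = D.zc * (m : Cz z) := by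
        rw [← hz, ← uHW_coe H.tor (rho H.tor h), ← Subgroup.coe_mul, mul_inv_cancel_left]
      have hc : Commute D.zc (m : Cz z) := (show Commute (m : Cz z) D.zc from zc_comm hD _).symm
      refine hg ?_
      have h3 : p2 (x⁻¹ * g * x) = D.zc := by
        show p2 (h : Cz z) = D.zc
        rw [e]
        exact p2_mul (two_of_mem hD.core H.zU.2) hc.symm (by
          rw [Subgroup.orderOf_coe]
          exact fun h2 => (Nat.not_even_iff_odd.2 hm) (even_iff_two_dvd.2 h2))
      calc p2 g = x * p2 (x⁻¹ * g * x) * x⁻¹ := by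
            rw [← p2_conj, show x * (x⁻¹ * g * x) * x⁻¹ = g by group]
        _ = D.zc := by rw [h3, zc_comm hD x, mul_inv_cancel_right]
    · exact zero_mul _
  · exact extendByZero_of_not_mem _ _ hx

theorem psum_supp : D.Supp H.psum := fun g hg => psum_zero H fun e => by
  obtain ⟨m, hm⟩ := pow_p2 H.tor.spec g
  exact hg m (hm.trans e)

/-- The central involution acts by its character. -/
theorem xi_zc_mul (μ : ↥(D.core.T true) →* ℂˣ) {y : Cz z} (hy : ¬ 2 ∣ orderOf y) :
    H.xi μ (D.zc * y) = (μ H.zU : ℂ) * H.xi μ y := by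
  classical
  have hD := H.tor.spec
  have hp : p2 (D.zc * y) = D.zc := p2_mul (two_of_mem hD.core H.zU.2) (zc_comm hD y) hy
  have hp1 : p2 y = 1 := by
    have := p2_mul (t := (1 : Cz z)) (v := y) ⟨0, by simp⟩ (Commute.one_right y) hy
    rwa [one_mul] at this
  have hs : St Ω (D.zc * y) = St Ω y := by
    rw [St, St]
    congr 2
    refine Nat.card_congr (Equiv.subtypeEquivRight fun a => ?_)
    show (D.zc * y) • a = a ↔ y • a = a
    rw [mul_smul, hD.core.ztriv _ hD.zcZ]
  have hR : D.core.R Ω true μ (D.zc * y) = (μ H.zU : ℂ) * D.core.R Ω true μ y := by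
    rw [R_ctype hD.core true μ hD.zcZ (by rw [hp, mul_inv_cancel]; exact one_mem _), R_reg hD true μ
      (by rw [hp1]; exact one_mem _), hs, tv_mem _ (hD.core.zle true hD.zcZ)]
    rfl
  have hmem : D.zc ∈ HW D := CW_le_HW H.tor (zc_mem_CW H.tor)
  have hI : indFun (HW D) (H.delta μ) (D.zc * y) = (μ H.zU : ℂ) * indFun (HW D) (H.delta μ) y := by
    rw [indFun, indFun, mul_left_comm, Finset.mul_sum (a := (μ H.zU : ℂ))]
    congr 1
    refine Finset.sum_congr rfl fun x _ => ?_
    have e : x⁻¹ * (D.zc * y) * x = D.zc * (x⁻¹ * y * x) := by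
      rw [← mul_assoc x⁻¹, zc_comm hD x⁻¹]; group
    rw [e]
    by_cases hx : x⁻¹ * y * x ∈ HW D
    · rw [extendByZero_of_mem _ _ hx, extendByZero_of_mem _ _ (mul_mem hmem hx)]
      have e2 : (⟨D.zc * (x⁻¹ * y * x), mul_mem hmem hx⟩ : ↥(HW D)) = uHW H.tor H.zU * ⟨_, hx⟩ := Subtype.ext rfl
      rw [e2]
      simp only [Chi.delta, map_mul, rho_u, lamh_u, one_mul, Units.val_mul]
      ring
    · rw [extendByZero_of_not_mem _ _ hx, extendByZero_of_not_mem _ _ fun h => hx (by
        have := mul_mem (inv_mem hmem) h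
        rwa [inv_mul_cancel_left] at this), mul_zero]
  rw [Chi.xi, Pi.add_apply, Pi.add_apply, hR, hI, mul_add]

end CfsgLib.RankTwoModel.L4.Moved
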